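import Mathlib
import Cfsg.Agent.H774.DatA
import Cfsg.Agent.S1896
set_option linter.all false

-- part: H774/Ext
section
/-!
# Extending homomorphisms along cyclic extensions (helper774)
-/

set_option autoImplicit false

namespace Cfsg.Agent.H774

open Subgroup

/-- Let `N ≤ M`, `x ∈ M` normalizing `N` with `M = N⟨x⟩`, `n` the order of `x` modulo `N`. A function multiplicative on
`N` extends to one multiplicative on `M`, with `x ↦ α`, if `α` satisfies the obvious relations. -/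
theorem exists_extend {P Γ : Type*} [Group P] [Group Γ] {N M : Subgroup P} {f : P → Γ}
    (hf : ∀ a ∈ N, ∀ b ∈ N, f (a * b) = f a * f b) {x : P}
    (hxN : ∀ a ∈ N, x * a * x⁻¹ ∈ N) (hxN' : ∀ a ∈ N, x⁻¹ * a * x ∈ N)
    (hgen : ∀ p ∈ M, ∃ i : ℤ, p * x ^ i ∈ N) {n : ℕ} (hn : x ^ n ∈ N)
    (hdiv : ∀ i : ℤ, x ^ i ∈ N → (n : ℤ) ∣ i) {α : Γ}
    (h1 : ∀ a ∈ N, f (x * a * x⁻¹) = α * f a * α⁻¹) (h2 : f (x ^ n) = α ^ n) :
    ∃ F : P → Γ, (∀ p ∈ M, ∀ q ∈ M, F (p * q) = F p * F q) ∧ (∀ a ∈ N, F a = f a) ∧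
      ∀ a ∈ N, ∀ i : ℤ, F (a * x ^ i) = f a * α ^ i := by
  classical
  have f1 : f 1 = 1 := by
    have := hf 1 (one_mem _) 1 (one_mem _)
    rw [mul_one] at this
    exact left_eq_mul.1 this
  have finv : ∀ a ∈ N, f a⁻¹ = (f a)⁻¹ := by
    intro a ha
    have := hf a⁻¹ (inv_mem ha) a ha
    rw [inv_mul_cancel, f1] at this
    exact eq_inv_of_mul_eq_one_left this.symm
  -- powers of `x`
  have hxz : ∀ i : ℤ, ∀ a ∈ N, x ^ i * a * (x ^ i)⁻¹ ∈ N ∧
      f (x ^ i * a * (x ^ i)⁻¹) = α ^ i * f a * (α ^ i)⁻¹ := by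
    intro i
    induction i with
    | zero => intro a ha; simp [ha]
    | succ i ih =>
      intro a ha
      obtain ⟨h3, h4⟩ := ih a ha
      have e1 : x ^ ((i : ℤ) + 1) * a * (x ^ ((i : ℤ) + 1))⁻¹ =
          x * (x ^ (i : ℤ) * a * (x ^ (i : ℤ))⁻¹) * x⁻¹ := by
        rw [add_comm, zpow_add, zpow_one]; group
      have e2 : α ^ ((i : ℤ) + 1) * f a * (α ^ ((i : ℤ) + 1))⁻¹ =
          α * (α ^ (i : ℤ) * f a * (α ^ (i : ℤ))⁻¹) * α⁻¹ := by
        rw [add_comm, zpow_add, zpow_one]; group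
      rw [e1, e2]
      exact ⟨hxN _ h3, by rw [h1 _ h3, h4]⟩
    | pred i ih =>
      intro a ha
      obtain ⟨h3, h4⟩ := ih a ha
      have e1 : x ^ (-(i : ℤ) - 1) * a * (x ^ (-(i : ℤ) - 1))⁻¹ =
          x⁻¹ * (x ^ (-(i : ℤ)) * a * (x ^ (-(i : ℤ)))⁻¹) * x := by
        have : -(i : ℤ) - 1 = -1 + -(i : ℤ) := by ring
        rw [this, zpow_add, zpow_neg_one]; group
      have e2 : α ^ (-(i : ℤ) - 1) * f a * (α ^ (-(i : ℤ) - 1))⁻¹ =
          α⁻¹ * (α ^ (-(i : ℤ)) * f a * (α ^ (-(i : ℤ)))⁻¹) * α := by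
        have : -(i : ℤ) - 1 = -1 + -(i : ℤ) := by ring
        rw [this, zpow_add, zpow_neg_one]; group
      rw [e1, e2]
      refine ⟨hxN' _ h3, ?_⟩
      have h5 := h1 _ (hxN' _ h3)
      have h6 : x * (x⁻¹ * (x ^ (-(i : ℤ)) * a * (x ^ (-(i : ℤ)))⁻¹) * x) * x⁻¹ =
          x ^ (-(i : ℤ)) * a * (x ^ (-(i : ℤ)))⁻¹ := by group
      rw [h6, h4] at h5
      rw [h5]; group
  -- powers of `x` in `N`
  have hxp : ∀ i : ℤ, x ^ i ∈ N → f (x ^ i) = α ^ i := by
    intro i hi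
    obtain ⟨q, rfl⟩ := hdiv i hi
    have key : ∀ q : ℤ, f ((x ^ n) ^ q) = (f (x ^ n)) ^ q := by
      have hnat : ∀ m : ℕ, f ((x ^ n) ^ m) = (f (x ^ n)) ^ m := by
        intro m
        induction m with
        | zero => simp [f1]
        | succ m ih => rw [pow_succ, hf _ (pow_mem hn m) _ hn, ih, pow_succ]
      intro q
      obtain ⟨m, rfl | rfl⟩ := q.eq_nat_or_neg
      · rw [zpow_natCast, zpow_natCast, hnat]
      · rw [zpow_neg, zpow_neg, zpow_natCast, zpow_natCast, finv _ (pow_mem hn m), hnat]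
    rw [zpow_mul, zpow_natCast, key, h2, zpow_mul, zpow_natCast]
  have hwd : ∀ a ∈ N, ∀ b ∈ N, ∀ i j : ℤ, a * x ^ i = b * x ^ j → f a * α ^ i = f b * α ^ j := by
    intro a ha b hb i j h
    have h3 : x ^ (i - j) = a⁻¹ * b := by
      rw [zpow_sub]
      calc x ^ i * (x ^ j)⁻¹ = a⁻¹ * (a * x ^ i) * (x ^ j)⁻¹ := by group
        _ = a⁻¹ * (b * x ^ j) * (x ^ j)⁻¹ := by rw [h]
        _ = _ := by group
    have h4 := hxp (i - j) (by rw [h3]; exact mul_mem (inv_mem ha) hb)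
    rw [h3, hf _ (inv_mem ha) _ hb, finv a ha] at h4
    have h5 : α ^ i = (f a)⁻¹ * f b * α ^ j := by
      rw [h4, ← zpow_add]; congr 1; ring
    rw [h5]; group
  let F : P → Γ := fun p => if h : ∃ ai : P × ℤ, ai.1 ∈ N ∧ p = ai.1 * x ^ ai.2 then
    f h.choose.1 * α ^ h.choose.2 else 1
  have hF : ∀ a ∈ N, ∀ i : ℤ, F (a * x ^ i) = f a * α ^ i := by
    intro a ha i
    have h : ∃ ai : P × ℤ, ai.1 ∈ N ∧ a * x ^ i = ai.1 * x ^ ai.2 := ⟨(a, i), ha, rfl⟩
    have h3 : F (a * x ^ i) = f h.choose.1 * α ^ h.choose.2 := dif_pos h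
    rw [h3]
    exact (hwd a ha _ h.choose_spec.1 _ _ h.choose_spec.2).symm
  refine ⟨F, ?_, ?_, hF⟩
  · intro p hp q hq
    obtain ⟨i, hi⟩ := hgen p hp
    obtain ⟨j, hj⟩ := hgen q hq
    have e1 : p = (p * x ^ i) * x ^ (-i) := by rw [mul_assoc, ← zpow_add, add_neg_cancel, zpow_zero, mul_one]
    have e2 : q = (q * x ^ j) * x ^ (-j) := by rw [mul_assoc, ← zpow_add, add_neg_cancel, zpow_zero, mul_one]
    set a := p * x ^ i with ha
    set b := q * x ^ j with hb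
    clear_value a b
    subst e1 e2
    obtain ⟨h3, h4⟩ := hxz (-i) b hj
    have e3 : a * x ^ (-i) * (b * x ^ (-j)) = (a * (x ^ (-i) * b * (x ^ (-i))⁻¹)) * x ^ (-i + -j) := by
      rw [zpow_add]; group
    rw [e3, hF _ (mul_mem hi h3), hF a hi, hF b hj, hf a hi _ h3, h4, zpow_add]
    group
  · intro a ha
    have := hF a ha 0
    rwa [zpow_zero, mul_one, zpow_zero, mul_one] at this

/-- two multiplicative functions agreeing on generators agree on the closure -/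
theorem eq_of_closure {P Γ : Type*} [Group P] [Group Γ] {s : Set P} {f g : P → Γ}
    (hf : ∀ a ∈ Subgroup.closure s, ∀ b ∈ Subgroup.closure s, f (a * b) = f a * f b)
    (hg : ∀ a ∈ Subgroup.closure s, ∀ b ∈ Subgroup.closure s, g (a * b) = g a * g b)
    (h : ∀ a ∈ s, f a = g a) : ∀ a ∈ Subgroup.closure s, f a = g a := by
  have f1 : f 1 = 1 := by
    have := hf 1 (one_mem _) 1 (one_mem _)
    rw [mul_one] at this
    exact left_eq_mul.1 this
  have g1 : g 1 = 1 := by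
    have := hg 1 (one_mem _) 1 (one_mem _)
    rw [mul_one] at this
    exact left_eq_mul.1 this
  intro a ha
  induction ha using Subgroup.closure_induction with
  | mem x hx => exact h x hx
  | one => rw [f1, g1]
  | mul x y hx hy hx' hy' => rw [hf x hx y hy, hg x hx y hy, hx', hy']
  | inv x hx hx' =>
    have h1 := hf x⁻¹ (inv_mem hx) x hx
    rw [inv_mul_cancel, f1] at h1
    have h2 := hg x⁻¹ (inv_mem hx) x hx
    rw [inv_mul_cancel, g1] at h2
    rw [eq_inv_of_mul_eq_one_left h1.symm, eq_inv_of_mul_eq_one_left h2.symm, hx']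

end Cfsg.Agent.H774
end

-- part: H774/DatB
section
/-!
# `R = [Q, b]`: the Frattini quotient has order four and `R` is metacyclic (helper774)
-/

set_option autoImplicit false
set_option linter.unusedSectionVars false

namespace Cfsg.Agent.H774

open Subgroup Cfsg.Agent.OddOrderLocal.Metacyclic

theorem Amb.relIndex_Sq_le_eight {G : Type*} [Group G] [Finite G] (A : Amb G) {H : Subgroup G}
    (hH : H ≠ ⊤) : (Sq H).relIndex H ≤ 8 := by
  have h1 : Sq H ≤ H ⊓ Sq ⊤ := le_inf (Sq_le H) (Sq_mono le_top)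
  have h2 := relIndex_mul_relIndex (Sq H) (H ⊓ Sq ⊤) H h1 inf_le_left
  have h3 : (Sq H).relIndex (H ⊓ Sq ⊤) ≤ 4 :=
    relIndex_le_four A.met inf_le_right
      (fun a ha s hs _ => conj_mem_Sq (fun h hh => mul_mem (mul_mem ha.1 hh) (inv_mem ha.1)) hs)
      (fun a ha => sq_mem_Sq ha.1)
  have h4 : (H ⊓ Sq ⊤).relIndex H ≤ 2 := by
    rw [inf_relIndex_left]
    exact A.rel H hH
  rw [← h2]
  calc _ ≤ 4 * 2 := Nat.mul_le_mul h3 h4
    _ = 8 := rfl

/-- four cosets -/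
theorem coset_four_sub {G : Type*} [Group G] {R N : Subgroup G}
    (hNn : ∀ r ∈ R, ∀ n ∈ N, r * n * r⁻¹ ∈ N) (hi : N.relIndex R = 4) (hsq : ∀ r ∈ R, r ^ 2 ∈ N)
    {g h : G} (hgR : g ∈ R) (hhR : h ∈ R) (hg : g ∉ N) (hh : h ∉ N) (hgh : g⁻¹ * h ∉ N) {k : G}
    (hk : k ∈ R) : k ∈ N ∨ g⁻¹ * k ∈ N ∨ h⁻¹ * k ∈ N ∨ (g * h)⁻¹ * k ∈ N := by
  have hn : (N.subgroupOf R).Normal :=
    ⟨fun n hn g => mem_subgroupOf.2 (hNn g g.2 n (mem_subgroupOf.1 hn))⟩
  have := coset_four (N := N.subgroupOf R) hi (fun r => mem_subgroupOf.2 (hsq r r.2))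
    (g := ⟨g, hgR⟩) (h := ⟨h, hhR⟩) (fun h => hg (mem_subgroupOf.1 h)) (fun h => hh (mem_subgroupOf.1 h))
    (fun h => hgh (mem_subgroupOf.1 h)) ⟨k, hk⟩
  rcases this with h1 | h1 | h1 | h1
  · exact Or.inl (mem_subgroupOf.1 h1)
  · exact Or.inr (Or.inl (mem_subgroupOf.1 h1))
  · exact Or.inr (Or.inr (Or.inl (mem_subgroupOf.1 h1)))
  · exact Or.inr (Or.inr (Or.inr (mem_subgroupOf.1 h1)))

namespace Dat

variable {G : Type*} [Group G] [Finite G] {Q : Subgroup G} {t : G} {b : G → G}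

theorem mem_of_fixed (D : Dat Q t b) (hG : IsPGroup 2 G) {N : Subgroup G}
    (hN : ∀ x ∈ Rr Q b, ∀ y ∈ Rr Q b, x * y * x⁻¹ * y⁻¹ ∈ N) (hNn : ∀ r ∈ Rr Q b, ∀ n ∈ N, r * n * r⁻¹ ∈ N)
    (hNb : ∀ n ∈ N, n ∈ Rr Q b → b n ∈ N) {r : G}
    (hr : r ∈ Rr Q b) (hfix : r⁻¹ * b r ∈ N) : r ∈ N := by
  have h1 := D.norm_mem hG hN hNn hr
  have hn : (N.subgroupOf (Rr Q b)).Normal :=
    ⟨fun n hn g => mem_subgroupOf.2 (hNn g g.2 n (mem_subgroupOf.1 hn))⟩
  let f := QuotientGroup.mk' (N.subgroupOf (Rr Q b))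
  have hf1 : ∀ x : Rr Q b, f x = 1 ↔ (x : G) ∈ N := fun x =>
    (QuotientGroup.eq_one_iff x).trans mem_subgroupOf
  have hfe : ∀ x y : Rr Q b, f x = f y ↔ (x : G)⁻¹ * y ∈ N := fun x y =>
    QuotientGroup.eq.trans mem_subgroupOf
  set y : Rr Q b := ⟨r, hr⟩ with hy
  set y' : Rr Q b := ⟨b r, D.bR hr⟩ with hy'
  set y'' : Rr Q b := ⟨b (b r), D.bR (D.bR hr)⟩ with hy''
  have e1 : f y = f y' := (hfe y y').2 hfix
  have e2 : f y' = f y'' := by
    rw [hfe]
    have h3 : r⁻¹ * b r ∈ Rr Q b := mul_mem (inv_mem hr) (D.bR hr)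
    have h4 := hNb _ hfix h3
    rw [D.bmul _ (inv_mem (D.R_le hr)) _ (D.bQ _ (D.R_le hr)), D.binv (D.R_le hr)] at h4
    exact h4
  have e3 : f (y * y' * y'') = 1 := (hf1 _).2 h1
  rw [map_mul, map_mul, ← e2, ← e1] at e3
  have e4 : f (y ^ 3) = 1 := by rw [← e3, map_pow]; simp only [pow_succ, pow_zero, one_mul]
  have e5 : r ^ 3 ∈ N := (hf1 _).1 e4
  have e6 : r ∈ zpowers (r ^ (3 : ℤ)) := mem_zpowers_zpow_of_odd hG r ⟨1, by norm_num⟩
  have e7 : r ^ (3 : ℤ) ∈ N := by exact_mod_cast e5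
  exact (zpowers_le.2 e7) e6

theorem SqR_conj {R : Subgroup G} {r s : G} (hr : r ∈ R) (hs : s ∈ Sq R) : r * s * r⁻¹ ∈ Sq R :=
  conj_mem_Sq (fun _ hh => mul_mem (mul_mem hr hh) (inv_mem hr)) hs

theorem bSqR (D : Dat Q t b) {s : G} (hs : s ∈ Sq (Rr Q b)) : b s ∈ Sq (Rr Q b) :=
  apply_mem_Sq (fun _ hh => D.bR hh)
    (fun x hx y hy => D.bmul x (D.R_le hx) y (D.R_le hy)) hs

/-- `b` acts without fixed points on `R / Φ(R)`. -/
theorem mem_Sq_of_fixed (D : Dat Q t b) (hG : IsPGroup 2 G) {r : G}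
    (hr : r ∈ Rr Q b) (hfix : r⁻¹ * b r ∈ Sq (Rr Q b)) : r ∈ Sq (Rr Q b) :=
  D.mem_of_fixed hG (fun _ hx _ hy => comm_mem_Sq hx hy) (fun _ hr' _ hn => SqR_conj hr' hn) (fun _ hn _ => D.bSqR hn) hr hfix

theorem exists_notMem (D : Dat Q t b) (hG : IsPGroup 2 G) : ∃ g ∈ Rr Q b, g ∉ Sq (Rr Q b) := by
  by_contra hall
  push Not at hall
  have h1 : (⊥ : Subgroup G) = Rr Q b :=
    eq_of_le_sup_Sq (hG.to_subgroup _) bot_le (fun x hx => mem_sup_right (hall x hx))
  obtain ⟨q, hq, hne⟩ := D.bne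
  have h2 := D.mem_R hq
  rw [← h1, mem_bot] at h2
  exact hne (inv_mul_eq_one.1 h2).symm

theorem Q_ne_top (D : Dat Q t b) : Q ≠ ⊤ := fun h => D.tQ (h ▸ mem_top t)

theorem R_ne_top (D : Dat Q t b) : Rr Q b ≠ ⊤ := fun h =>
  D.Q_ne_top (top_le_iff.1 (h ▸ D.R_le))

theorem relIndex_SqR (D : Dat Q t b) (A : Amb G) : (Sq (Rr Q b)).relIndex (Rr Q b) = 4 := by
  classical
  have hG := A.two
  have h8 := A.relIndex_Sq_le_eight D.R_ne_top
  set R := Rr Q b with hR
  have hn : ((Sq R).subgroupOf R).Normal :=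
    ⟨fun n hn g => mem_subgroupOf.2 (SqR_conj g.2 (mem_subgroupOf.1 hn))⟩
  let V := R ⧸ (Sq R).subgroupOf R
  have hfinV : Finite V := inferInstance
  have := Fintype.ofFinite V
  let β : R →* R :=
    { toFun := fun x => ⟨b x, D.bR x.2⟩
      map_one' := Subtype.ext D.b1
      map_mul' := fun x y => Subtype.ext (D.bmul x (D.R_le x.2) y (D.R_le y.2)) }
  have hβS : (Sq R).subgroupOf R ≤ ((Sq R).subgroupOf R).comap β := fun x hx =>
    show β x ∈ (Sq R).subgroupOf R from mem_subgroupOf.2 (D.bSqR (mem_subgroupOf.1 hx))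
  let ψ : V →* V := QuotientGroup.map _ _ β hβS
  let f : Function.End V := fun v => ψ v
  have hf3 : f ^ 3 ^ 1 = 1 := by
    funext v
    obtain ⟨r, rfl⟩ := QuotientGroup.mk_surjective v
    rw [pow_one, pow_succ, pow_succ, pow_one]
    show ((β (β (β r)) : R) : V) = r
    have : β (β (β r)) = r := Subtype.ext (D.b3 r (D.R_le r.2))
    rw [this]
  have : Fact (Nat.Prime 3) := ⟨Nat.prime_three⟩
  have h1 := Equiv.Perm.card_fixedPoints_modEq hf3
  have h2 : Fintype.card f.fixedPoints = 1 := by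
    rw [Fintype.card_eq_one_iff]
    refine ⟨⟨1, map_one ψ⟩, ?_⟩
    rintro ⟨v, hv⟩
    obtain ⟨r, rfl⟩ := QuotientGroup.mk_surjective v
    apply Subtype.ext
    have h3 : ((β r : R) : V) = (r : V) := hv
    have h4 := QuotientGroup.eq.1 h3.symm
    have h5 : (r : G)⁻¹ * b r ∈ Sq R := mem_subgroupOf.1 h4
    have h6 := D.mem_Sq_of_fixed hG r.2 h5
    exact (QuotientGroup.eq_one_iff r).2 (mem_subgroupOf.2 h6)
  rw [h2] at h1
  have hcard : Fintype.card V = (Sq R).relIndex R := by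
    rw [← Nat.card_eq_fintype_card]; rfl
  rw [hcard] at h1
  have hpow : ∃ n, (Sq R).relIndex R = 2 ^ n := by
    have : Fact (Nat.Prime 2) := ⟨Nat.prime_two⟩
    have h3 : IsPGroup 2 V := (hG.to_subgroup R).to_quotient _
    obtain ⟨n, hn⟩ := IsPGroup.iff_card.1 h3
    exact ⟨n, hn⟩
  obtain ⟨n, hn'⟩ := hpow
  have hne1 : (Sq R).relIndex R ≠ 1 := by
    intro h
    obtain ⟨g, hg, hg'⟩ := D.exists_notMem hG
    exact hg' (relIndex_eq_one.1 h hg)
  rw [hn'] at h1 h8 hne1 ⊢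
  have hn3 : n ≤ 3 := by
    by_contra hlt
    push Not at hlt
    have : 2 ^ 4 ≤ 2 ^ n := Nat.pow_le_pow_right (by norm_num) hlt
    omega
  interval_cases n
  · exact absurd rfl hne1
  · exact absurd h1 (by decide)
  · rfl
  · exact absurd h1 (by decide)

/-- the four cosets of `Φ(R)` in `R` -/
theorem cosets (D : Dat Q t b) (A : Amb G) {g h k : G} (hgR : g ∈ Rr Q b) (hhR : h ∈ Rr Q b)
    (hg : g ∉ Sq (Rr Q b)) (hh : h ∉ Sq (Rr Q b)) (hgh : g⁻¹ * h ∉ Sq (Rr Q b)) (hk : k ∈ Rr Q b) :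
    k ∈ Sq (Rr Q b) ∨ g⁻¹ * k ∈ Sq (Rr Q b) ∨ h⁻¹ * k ∈ Sq (Rr Q b) ∨
      (g * h)⁻¹ * k ∈ Sq (Rr Q b) :=
  coset_four_sub (fun _ hr _ hn => SqR_conj hr hn) (D.relIndex_SqR A) (fun _ hr => sq_mem_Sq hr)
    hgR hhR hg hh hgh hk

theorem b_notMem (D : Dat Q t b) (hG : IsPGroup 2 G) {g : G} (hgR : g ∈ Rr Q b)
    (hg : g ∉ Sq (Rr Q b)) : b g ∉ Sq (Rr Q b) ∧ g⁻¹ * b g ∉ Sq (Rr Q b) := by
  refine ⟨fun h => ?_, fun h => hg (D.mem_Sq_of_fixed hG hgR h)⟩
  have := D.bSqR (D.bSqR h)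
  rw [D.b3 g (D.R_le hgR)] at this
  exact hg this

theorem eq_R_of_mem (D : Dat Q t b) (A : Amb G) {K : Subgroup G} (hK : K ≤ Rr Q b) {g h : G}
    (hg : g ∈ K) (hh : h ∈ K) (hg' : g ∉ Sq (Rr Q b)) (hh' : h ∉ Sq (Rr Q b))
    (hgh : g⁻¹ * h ∉ Sq (Rr Q b)) : K = Rr Q b := by
  refine eq_of_le_sup_Sq (A.two.to_subgroup _) hK ?_
  intro k hk
  have hg1 : g ∈ K ⊔ Sq (Rr Q b) := mem_sup_left hg
  have hh1 : h ∈ K ⊔ Sq (Rr Q b) := mem_sup_left hh
  rcases D.cosets A (hK hg) (hK hh) hg' hh' hgh hk with h1 | h1 | h1 | h1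
  · exact mem_sup_right h1
  · have := mul_mem hg1 (mem_sup_right h1 : g⁻¹ * k ∈ K ⊔ Sq (Rr Q b))
    rwa [mul_inv_cancel_left] at this
  · have := mul_mem hh1 (mem_sup_right h1 : h⁻¹ * k ∈ K ⊔ Sq (Rr Q b))
    rwa [mul_inv_cancel_left] at this
  · have := mul_mem (mul_mem hg1 hh1) (mem_sup_right h1 : (g * h)⁻¹ * k ∈ K ⊔ Sq (Rr Q b))
    rwa [mul_inv_cancel_left] at this

/-- `R` is metacyclic. -/
theorem isMetacyclic_R (D : Dat Q t b) (A : Amb G) : Cfsg.IsMetacyclic (Rr Q b) := by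
  have hG := A.two
  obtain ⟨g, hgR, hg⟩ := D.exists_notMem hG
  obtain ⟨hbg, hgbg⟩ := D.b_notMem hG hgR hg
  let β : Rr Q b →* Rr Q b :=
    { toFun := fun x => ⟨b x, D.bR x.2⟩
      map_one' := Subtype.ext D.b1
      map_mul' := fun x y => Subtype.ext (D.bmul x (D.R_le x.2) y (D.R_le y.2)) }
  have hSq : (Sq (⊤ : Subgroup (Rr Q b))).map (Rr Q b).subtype = Sq (Rr Q b) := by
    rw [map_Sq, ← MonoidHom.range_eq_map, range_subtype]
  have hmemSq : ∀ x : Rr Q b, (x : G) ∈ Sq (Rr Q b) → x ∈ Sq (⊤ : Subgroup (Rr Q b)) := by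
    intro x hx
    rw [← hSq] at hx
    obtain ⟨y, hy, hyx⟩ := hx
    rwa [← Subtype.ext (show (y : G) = x from hyx)]
  refine isMetacyclic_of_order_three (hG.to_subgroup _) β
    (fun x => Subtype.ext (D.b3 x (D.R_le x.2))) ⟨g, hgR⟩ ?_ ?_ ?_
  · have h1 := D.eq_R_of_mem A (K := (Subgroup.closure {(⟨g, hgR⟩ : Rr Q b), β ⟨g, hgR⟩}).map
      (Rr Q b).subtype) (map_subtype_le _)
      (mem_map_of_mem _ (subset_closure (Set.mem_insert _ _)))
      (mem_map_of_mem _ (subset_closure (Set.mem_insert_of_mem _ (Set.mem_singleton _)))) hg hbg hgbg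
    rw [eq_top_iff]
    intro x _
    have h2 : (x : G) ∈ (Subgroup.closure {(⟨g, hgR⟩ : Rr Q b), β ⟨g, hgR⟩}).map
      (Rr Q b).subtype := by rw [h1]; exact x.2
    obtain ⟨y, hy, hyx⟩ := h2
    rwa [← Subtype.ext (show (y : G) = x from hyx)]
  · refine hmemSq _ ?_
    exact D.norm_mem hG (fun _ hx _ hy => comm_mem_Sq hx hy) (fun _ hr _ hn => SqR_conj hr hn) hgR
  · have h1 : ∀ x : Sq (⊤ : Subgroup (Rr Q b)), ((x : Rr Q b) : G) ∈ Sq (⊤ : Subgroup G) := by
      intro x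
      have h2 : ((x : Rr Q b) : G) ∈ (Sq (⊤ : Subgroup (Rr Q b))).map (Rr Q b).subtype :=
        mem_map_of_mem _ x.2
      rw [hSq] at h2
      exact Sq_mono le_top h2
    let ι : Sq (⊤ : Subgroup (Rr Q b)) →* Sq (⊤ : Subgroup G) :=
      { toFun := fun x => ⟨((x : Rr Q b) : G), h1 x⟩
        map_one' := rfl
        map_mul' := fun _ _ => rfl }
    refine isMetacyclic_of_injective ι (fun x y hxy => ?_) A.met
    have h3 : ((x : Rr Q b) : G) = ((y : Rr Q b) : G) := congrArg (fun z : Sq (⊤ : Subgroup G) => (z : G)) hxy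
    exact Subtype.ext (Subtype.ext h3)

end Dat

end Cfsg.Agent.H774
end

-- part: H774/DatC
section
/-!
# The action on `R / Φ(R)` (helper774)
-/

set_option autoImplicit false
set_option linter.unusedSectionVars false

namespace Cfsg.Agent.H774

open Subgroup Cfsg.Agent.OddOrderLocal.Metacyclic

theorem relIndex_ne_zero' {G : Type*} [Group G] [Finite G] (H K : Subgroup G) : H.relIndex K ≠ 0 :=
  index_ne_zero_of_finite

section quot

variable {G : Type*} [Group G] (R : Subgroup G)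

instance SqR_normal : ((Sq R).subgroupOf R).Normal :=
  ⟨fun _ hn g => mem_subgroupOf.2 (conj_mem_Sq
    (fun _ hh => mul_mem (mul_mem g.2 hh) (inv_mem g.2)) (mem_subgroupOf.1 hn))⟩

/-- `R / Φ(R)` -/
abbrev VR := R ⧸ (Sq R).subgroupOf R

/-- the projection -/
def fR : R →* VR R := QuotientGroup.mk' _

variable {R}

theorem fR_eq_one {x : R} : fR R x = 1 ↔ (x : G) ∈ Sq R :=
  (QuotientGroup.eq_one_iff x).trans mem_subgroupOf

theorem fR_eq {x y : R} : fR R x = fR R y ↔ (x : G)⁻¹ * y ∈ Sq R :=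
  QuotientGroup.eq.trans mem_subgroupOf

theorem fR_comm (x y : R) : fR R x * fR R y = fR R y * fR R x := by
  have h1 : fR R (x * y * x⁻¹ * y⁻¹) = 1 := fR_eq_one.2 (comm_mem_Sq x.2 y.2)
  have h2 : fR R x * fR R y * (fR R x)⁻¹ * (fR R y)⁻¹ = 1 := by rw [← h1]; simp
  exact mul_inv_eq_iff_eq_mul.1 (mul_inv_eq_one.1 h2)

theorem fR_sq (x : R) : fR R x * fR R x = 1 := by
  rw [← map_mul, fR_eq_one, ← pow_two]
  exact sq_mem_Sq x.2

end quot

namespace Dat

variable {G : Type*} [Group G] [Finite G] {Q : Subgroup G} {t : G} {b : G → G}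

/-- The fixed points of `b`. -/
def C (D : Dat Q t b) : Subgroup G where
  carrier := {c | c ∈ Q ∧ b c = c}
  one_mem' := ⟨one_mem _, D.b1⟩
  mul_mem' := by
    rintro a c ⟨ha, ha'⟩ ⟨hc, hc'⟩
    exact ⟨mul_mem ha hc, by rw [D.bmul a ha c hc, ha', hc']⟩
  inv_mem' := by
    rintro a ⟨ha, ha'⟩
    exact ⟨inv_mem ha, by rw [D.binv ha, ha']⟩

theorem C_le (D : Dat Q t b) : D.C ≤ Q := fun _ h => h.1

theorem tC (D : Dat Q t b) {c : G} (hc : c ∈ D.C) : t * c * t⁻¹ ∈ D.C := by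
  have h1 := D.tN c hc.1
  refine ⟨h1, ?_⟩
  have h2 : t * c * t⁻¹ = b (b (t * c * t⁻¹)) := by
    have := D.bt' hc.1
    rwa [hc.2] at this
  rw [h2, D.b3 _ h1, ← h2]

/-- `b` on `R` -/
def bR' (D : Dat Q t b) : Rr Q b →* Rr Q b where
  toFun := fun x => ⟨b x, D.bR x.2⟩
  map_one' := Subtype.ext D.b1
  map_mul' := fun x y => Subtype.ext (D.bmul x (D.R_le x.2) y (D.R_le y.2))

theorem f_b (D : Dat Q t b) {x y : Rr Q b} (h : fR (Rr Q b) x = fR (Rr Q b) y) :
    fR (Rr Q b) (D.bR' x) = fR (Rr Q b) (D.bR' y) := by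
  rw [fR_eq] at h ⊢
  have h1 := D.bSqR h
  have h2 : b ((x : G)⁻¹ * y) = ((D.bR' x : Rr Q b) : G)⁻¹ * (D.bR' y : Rr Q b) := by
    rw [D.bmul _ (inv_mem (D.R_le x.2)) _ (D.R_le y.2), D.binv (D.R_le x.2)]
    rfl
  rwa [h2] at h1

theorem bR'3 (D : Dat Q t b) (x : Rr Q b) : D.bR' (D.bR' (D.bR' x)) = x :=
  Subtype.ext (D.b3 x (D.R_le x.2))

/-- conjugation on `R` by an element normalizing it -/
def cj {R : Subgroup G} (τ : G) (h : ∀ r ∈ R, τ * r * τ⁻¹ ∈ R) : R →* R where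
  toFun := fun x => ⟨τ * x * τ⁻¹, h x x.2⟩
  map_one' := Subtype.ext (by simp)
  map_mul' := fun x y => Subtype.ext (by
    show τ * (x * y : G) * τ⁻¹ = (τ * x * τ⁻¹) * (τ * y * τ⁻¹); group)

theorem f_cj {R : Subgroup G} {τ : G} (h : ∀ r ∈ R, τ * r * τ⁻¹ ∈ R) {x y : R}
    (hxy : fR R x = fR R y) : fR R (cj τ h x) = fR R (cj τ h y) := by
  rw [fR_eq] at hxy ⊢
  have h1 := conj_mem_Sq h hxy
  have h2 : τ * ((x : G)⁻¹ * y) * τ⁻¹ = ((cj τ h x : R) : G)⁻¹ * (cj τ h y : R) := by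
    show _ = (τ * x * τ⁻¹)⁻¹ * (τ * y * τ⁻¹)
    group
  rwa [h2] at h1

/-- Fixed points of `b` act trivially on `R / Φ(R)`. -/
theorem C_trivial (D : Dat Q t b) (A : Amb G) (k : ℕ) : ∀ c ∈ D.C, c ^ 2 ^ k = 1 →
    ∀ r ∈ Rr Q b, r⁻¹ * (c * r * c⁻¹) ∈ Sq (Rr Q b) := by
  induction k with
  | zero =>
    intro c _ h r _
    rw [pow_zero, pow_one] at h
    rw [h]; simp
  | succ k ih =>
    intro c hc h
    have hG := A.two
    have h2 := ih (c ^ 2) (pow_mem hc 2) (by rw [← pow_mul, ← h]; congr 1; ring)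
    have hcR : ∀ r ∈ Rr Q b, c * r * c⁻¹ ∈ Rr Q b := fun r hr => D.QR hc.1 hr
    have hcb : ∀ x : Rr Q b, D.bR' (cj c hcR x) = cj c hcR (D.bR' x) := by
      intro x
      apply Subtype.ext
      show b (c * x * c⁻¹) = c * b x * c⁻¹
      have hx := D.R_le x.2
      rw [D.bmul _ (mul_mem hc.1 hx) _ (inv_mem hc.1), D.bmul _ hc.1 _ hx, D.binv hc.1, hc.2]
    obtain ⟨g, hgR, hg⟩ := D.exists_notMem hG
    obtain ⟨hbg, hgbg⟩ := D.b_notMem hG hgR hg
    set y : Rr Q b := ⟨g, hgR⟩ with hy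
    have hfy : fR _ y ≠ 1 := fun h => hg (fR_eq_one.1 h)
    have hfby : fR _ (D.bR' y) ≠ 1 := fun h => hbg (fR_eq_one.1 h)
    have hne : fR _ y ≠ fR _ (D.bR' y) := fun h => hgbg (fR_eq.1 h)
    have hcc : fR _ (cj c hcR (cj c hcR y)) = fR _ y := by
      symm
      rw [fR_eq]
      have h3 := h2 g hgR
      have h4 : c ^ 2 * g * (c ^ 2)⁻¹ = c * (c * g * c⁻¹) * c⁻¹ := by simp only [pow_two]; group
      rw [h4] at h3
      exact h3
    -- the four cases
    have key : fR _ (cj c hcR y) = fR _ y := by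
      rcases D.cosets A hgR (D.bR hgR) hg hbg hgbg (hcR g hgR) with h1 | h1 | h1 | h1
      · exfalso
        have e1 : fR _ (cj c hcR y) = fR (Rr Q b) 1 := by
          rw [map_one]; exact fR_eq_one.2 h1
        have e2 := f_cj hcR e1
        rw [hcc, map_one, map_one] at e2
        exact hfy e2
      · exact (fR_eq.2 h1).symm
      · exfalso
        have e1 : fR _ (cj c hcR y) = fR _ (D.bR' y) := (fR_eq.2 h1).symm
        have e2 := f_cj hcR e1
        rw [hcc, ← hcb] at e2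
        have e3 := D.f_b e1
        rw [e3] at e2
        have e4 := D.f_b e2
        rw [D.bR'3] at e4
        exact hne e4.symm
      · exfalso
        have e1 : fR _ (cj c hcR y) = fR _ (y * D.bR' y) := (fR_eq.2 h1).symm
        have e2 := f_cj hcR e1
        rw [hcc, map_mul, ← hcb, map_mul, e1] at e2
        have e3 := D.f_b e1
        rw [e3, map_mul D.bR', map_mul, map_mul, mul_assoc, ← mul_assoc (fR _ (D.bR' y)), fR_sq,
          one_mul] at e2
        have e4 : fR (Rr Q b) (D.bR' (D.bR' y)) = fR _ 1 := by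
          rw [map_one]; exact mul_eq_left.1 e2.symm
        have e5 := D.f_b e4
        rw [D.bR'3, map_one, map_one] at e5
        exact hfy e5
    -- the subgroup on which `c` acts trivially
    let K : Subgroup G :=
      { carrier := {r | ∃ h : r ∈ Rr Q b, fR _ (cj c hcR ⟨r, h⟩) = fR _ ⟨r, h⟩}
        one_mem' := ⟨one_mem _, by
          have : (⟨1, one_mem _⟩ : Rr Q b) = 1 := rfl
          rw [this, map_one]⟩
        mul_mem' := by
          rintro p q ⟨hp, hp'⟩ ⟨hq, hq'⟩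
          refine ⟨mul_mem hp hq, ?_⟩
          have : (⟨p * q, mul_mem hp hq⟩ : Rr Q b) = ⟨p, hp⟩ * ⟨q, hq⟩ := rfl
          rw [this, map_mul, map_mul, map_mul, hp', hq']
        inv_mem' := by
          rintro p ⟨hp, hp'⟩
          refine ⟨inv_mem hp, ?_⟩
          have : (⟨p⁻¹, inv_mem hp⟩ : Rr Q b) = (⟨p, hp⟩)⁻¹ := rfl
          rw [this, map_inv, map_inv, map_inv, hp'] }
    have hK : K = Rr Q b := by
      refine D.eq_R_of_mem A (g := g) (h := b g) (fun r hr => hr.1) ⟨hgR, key⟩ ⟨D.bR hgR, ?_⟩ hg hbg hgbg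
      have := D.f_b key
      rw [hcb] at this
      exact this
    intro r hr
    rw [← hK] at hr
    obtain ⟨h1, h3⟩ := hr
    exact fR_eq.1 h3.symm

/-- `Q` acts trivially on `R / Φ(R)`. -/
theorem Q_trivial (D : Dat Q t b) (A : Amb G) {q r : G} (hq : q ∈ Q) (hr : r ∈ Rr Q b) :
    r⁻¹ * (q * r * q⁻¹) ∈ Sq (Rr Q b) := by
  obtain ⟨c, hc, hc1, s, hs, rfl⟩ := D.exists_mul A.two hq
  obtain ⟨k, hk⟩ := A.two c
  have h1 := D.C_trivial A k c ⟨hc, hc1⟩ hk (s * r * s⁻¹) (D.QR (D.R_le hs) hr)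
  have h2 : r⁻¹ * (c * s * r * (c * s)⁻¹) =
      (r⁻¹ * (s * r * s⁻¹)) * ((s * r * s⁻¹)⁻¹ * (c * (s * r * s⁻¹) * c⁻¹)) := by group
  rw [h2]
  refine mul_mem ?_ h1
  have h3 := comm_mem_Sq (inv_mem hr) hs
  have h4 : r⁻¹ * (s * r * s⁻¹) = r⁻¹ * s * (r⁻¹)⁻¹ * s⁻¹ := by group
  rw [h4]
  exact h3

/-- Elements of `N(Q)` acting trivially on `R / Φ(R)` are in `Q`. -/
theorem mem_Q_of_trivial (D : Dat Q t b) (A : Amb G) {τ : G} (hτ : ∀ q ∈ Q, τ * q * τ⁻¹ ∈ Q)
    (h : ∀ r ∈ Rr Q b, r⁻¹ * (τ * r * τ⁻¹) ∈ Sq (Rr Q b)) : τ ∈ Q := by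
  rcases D.norm τ hτ with h1 | h1
  · exact h1
  exfalso
  have hG := A.two
  have ht : ∀ s ∈ Rr Q b, s⁻¹ * (t * s * t⁻¹) ∈ Sq (Rr Q b) := by
    intro s hs
    set q := t⁻¹ * τ with hq
    have hr : q⁻¹ * s * q ∈ Rr Q b := by
      have := D.QR (inv_mem h1) hs
      rwa [inv_inv] at this
    have h2 := h _ hr
    have h3 := D.Q_trivial A h1 hr
    have h4 : s⁻¹ * (t * s * t⁻¹) = ((q⁻¹ * s * q)⁻¹ * (q * (q⁻¹ * s * q) * q⁻¹))⁻¹ *
        ((q⁻¹ * s * q)⁻¹ * (τ * (q⁻¹ * s * q) * τ⁻¹)) := by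
      rw [hq]; group
    rw [h4]
    exact mul_mem (inv_mem h3) h2
  obtain ⟨g, hgR, hg⟩ := D.exists_notMem hG
  have htR : ∀ r ∈ Rr Q b, t * r * t⁻¹ ∈ Rr Q b := fun r hr => D.tR hr
  obtain ⟨hbg, hgbg⟩ := D.b_notMem hG hgR hg
  have e1 : fR _ (cj t htR (⟨b g, D.bR hgR⟩ : Rr Q b)) = fR _ ⟨b g, D.bR hgR⟩ :=
    (fR_eq.2 (ht _ (D.bR hgR))).symm
  have e2 : fR _ (cj t htR (⟨g, hgR⟩ : Rr Q b)) = fR _ ⟨g, hgR⟩ := (fR_eq.2 (ht _ hgR)).symm
  have e3 : cj t htR (⟨b g, D.bR hgR⟩ : Rr Q b) = D.bR' (D.bR' (cj t htR ⟨g, hgR⟩)) :=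
    Subtype.ext (D.bt' (D.R_le hgR))
  have e4 := D.f_b (D.f_b e2)
  rw [← e3, e1] at e4
  have e5 := fR_eq.1 e4
  exact (D.b_notMem hG (D.bR hgR) hbg).2 e5

theorem exists_moved (D : Dat Q t b) (A : Amb G) :
    ∃ r ∈ Rr Q b, r⁻¹ * (t * r * t⁻¹) ∉ Sq (Rr Q b) := by
  by_contra hall
  push Not at hall
  exact D.tQ (D.mem_Q_of_trivial A D.tN hall)

/-- `Q / R` is cyclic. -/
theorem exists_gen (D : Dat Q t b) (A : Amb G) :
    ∃ c₀ ∈ D.C, ∀ q ∈ Q, ∃ k : ℤ, ∃ r ∈ Rr Q b, q = c₀ ^ k * r := by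
  have hG := A.two
  have h8 := A.relIndex_Sq_le_eight D.Q_ne_top
  have hRS : ∀ x ∈ Rr Q b, x ∈ Sq Q → x ∈ Sq (Rr Q b) := by
    intro x hx hxQ
    by_contra hxS
    have hbS : ∀ y ∈ Sq Q, b y ∈ Sq Q := fun y hy =>
      apply_mem_Sq D.bQ D.bmul hy
    obtain ⟨h1, h2⟩ := D.b_notMem hG hx hxS
    have h3 := D.eq_R_of_mem A (K := Rr Q b ⊓ Sq Q) (g := x) (h := b x) inf_le_left ⟨hx, hxQ⟩
      ⟨D.bR hx, hbS x hxQ⟩ hxS h1 h2
    have h4 : D.C = Q := by
      refine eq_of_le_sup_Sq (hG.to_subgroup _) D.C_le ?_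
      intro q hq
      obtain ⟨c, hc, hc1, r, hr, rfl⟩ := D.exists_mul hG hq
      rw [← h3] at hr
      exact mul_mem (mem_sup_left ⟨hc, hc1⟩) (mem_sup_right hr.2)
    obtain ⟨q, hq, hne⟩ := D.bne
    rw [← h4] at hq
    exact hne hq.2
  have hi : (Sq Q).relIndex (Rr Q b) = 4 := by
    rw [← D.relIndex_SqR A, ← inf_relIndex_right, ← inf_relIndex_right (Sq (Rr Q b))]
    congr 1
    apply le_antisymm
    · exact fun x hx => ⟨hRS x hx.2 hx.1, hx.2⟩
    · exact fun x hx => ⟨Sq_mono D.R_le hx.1, hx.2⟩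
  set K := Rr Q b ⊔ Sq Q with hK
  have hKQ : K ≤ Q := sup_le D.R_le (Sq_le Q)
  have h1 := relIndex_mul_relIndex (Sq Q) K Q le_sup_right hKQ
  have h2 : (Sq Q).relIndex (Rr Q b) ≤ (Sq Q).relIndex K :=
    relIndex_le_of_le_right le_sup_left (relIndex_ne_zero' _ _)
  rw [hi] at h2
  have h3 : K.relIndex Q ≤ 2 := by
    by_contra hlt
    push Not at hlt
    have : 4 * 3 ≤ (Sq Q).relIndex K * K.relIndex Q := Nat.mul_le_mul h2 hlt
    omega
  have hsub : ∀ c₀ ∈ D.C, Q ≤ (zpowers c₀ ⊔ Rr Q b) ⊔ Sq Q →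
      ∀ q ∈ Q, ∃ k : ℤ, ∃ r ∈ Rr Q b, q = c₀ ^ k * r := by
    intro c₀ hc₀ hle
    let M : Subgroup G :=
      { carrier := {q | ∃ k : ℤ, ∃ r ∈ Rr Q b, q = c₀ ^ k * r}
        one_mem' := ⟨0, 1, one_mem _, by simp⟩
        mul_mem' := by
          rintro _ _ ⟨k, r, hr, rfl⟩ ⟨l, s, hs, rfl⟩
          refine ⟨k + l, (c₀ ^ (-l) * r * (c₀ ^ (-l))⁻¹) * s,
            mul_mem (D.QR (zpow_mem hc₀.1 _) hr) hs, ?_⟩
          rw [zpow_add]; group
        inv_mem' := by
          rintro _ ⟨k, r, hr, rfl⟩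
          refine ⟨-k, c₀ ^ k * r⁻¹ * (c₀ ^ k)⁻¹, D.QR (zpow_mem hc₀.1 _) (inv_mem hr), ?_⟩
          group }
    have hMQ : M ≤ Q := by
      rintro _ ⟨k, r, hr, rfl⟩
      exact mul_mem (zpow_mem hc₀.1 k) (D.R_le hr)
    have hM : M = Q := by
      refine eq_of_le_sup_Sq (hG.to_subgroup _) hMQ (hle.trans (sup_le_sup_right ?_ _))
      refine sup_le ?_ ?_
      · rintro _ ⟨k, rfl⟩
        exact ⟨k, 1, one_mem _, by simp⟩
      · intro r hr
        exact ⟨0, r, hr, by simp⟩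
    intro q hq
    rw [← hM] at hq
    exact hq
  by_cases hKeq : K = Q
  · refine ⟨1, one_mem _, hsub 1 (one_mem _) ?_⟩
    rw [zpowers_one_eq_bot, bot_sup_eq, ← hK, hKeq]
  · obtain ⟨q₀, hq₀, hq₀K⟩ : ∃ q₀ ∈ Q, q₀ ∉ K := by
      by_contra hall
      push Not at hall
      exact hKeq (le_antisymm hKQ hall)
    have h4 : K.relIndex Q = 2 := by
      have h5 : K.relIndex Q ≠ 1 := fun h => hq₀K (relIndex_eq_one.1 h hq₀)
      have h6 : K.relIndex Q ≠ 0 := relIndex_ne_zero' _ _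
      omega
    obtain ⟨c₀, hc₀, hc₁, r₀, hr₀, hq₀'⟩ := D.exists_mul hG hq₀
    refine ⟨c₀, ⟨hc₀, hc₁⟩, hsub c₀ ⟨hc₀, hc₁⟩ ?_⟩
    have hc₀K : c₀ ∉ K := by
      intro h
      exact hq₀K (hq₀' ▸ mul_mem h (mem_sup_left hr₀))
    intro q hq
    have hKle : K ≤ (zpowers c₀ ⊔ Rr Q b) ⊔ Sq Q := sup_le_sup_right le_sup_right _
    by_cases hqK : q ∈ K
    · exact hKle hqK
    · have h5 : (⟨c₀, hc₀⟩ : Q)⁻¹ * ⟨q, hq⟩ ∈ K.subgroupOf Q := by
        rw [mul_mem_iff_of_index_two h4, inv_mem_iff, mem_subgroupOf, mem_subgroupOf]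
        tauto
      have h6 : c₀⁻¹ * q ∈ K := mem_subgroupOf.1 h5
      have h7 : q = c₀ * (c₀⁻¹ * q) := by group
      rw [h7]
      exact mul_mem (mem_sup_left (mem_sup_left (mem_zpowers c₀))) (hKle h6)

end Dat

end Cfsg.Agent.H774
end

-- part: H774/DatD
section
/-!
# The three shapes of `R` (helper774)
-/

set_option autoImplicit false
set_option linter.unusedSectionVars false

namespace Cfsg.Agent.H774

open Subgroup Cfsg.Agent.OddOrderLocal.Metacyclic

theorem zmod_pow_iff {n : ℕ} (hn : 1 ≤ n) (x : Multiplicative (ZMod (2 ^ n))) :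
    x ^ 2 ^ (n - 1) = 1 ↔ ∃ y : Multiplicative (ZMod (2 ^ n)), x = y ^ 2 := by
  obtain ⟨m, rfl⟩ : ∃ m, n = m + 1 := ⟨n - 1, by omega⟩
  have : NeZero (2 ^ (m + 1)) := ⟨by positivity⟩
  rw [Nat.add_sub_cancel]
  constructor
  · intro h
    have h1 : (2 ^ m : ℕ) • x.toAdd = 0 := h
    rw [nsmul_eq_mul, ← ZMod.natCast_zmod_val x.toAdd, ← Nat.cast_mul,
      ZMod.natCast_eq_zero_iff] at h1
    have h1' : 2 ^ m * 2 ∣ 2 ^ m * x.toAdd.val := (pow_succ 2 m) ▸ h1
    have h2 : 2 ∣ x.toAdd.val := Nat.dvd_of_mul_dvd_mul_left (by positivity) h1'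
    obtain ⟨c, hc⟩ := h2
    refine ⟨Multiplicative.ofAdd (c : ZMod (2 ^ (m + 1))), ?_⟩
    show x.toAdd = (2 : ℕ) • (c : ZMod (2 ^ (m + 1)))
    rw [← ZMod.natCast_zmod_val x.toAdd, hc, nsmul_eq_mul]; push_cast; ring
  · rintro ⟨y, rfl⟩
    rw [← pow_mul, ← pow_succ']
    have h1 : (2 ^ (m + 1) : ℕ) • y.toAdd = 0 := by
      rw [nsmul_eq_mul, ZMod.natCast_self, zero_mul]
    exact h1

namespace Dat

variable {G : Type*} [Group G] [Finite G] {Q : Subgroup G} {t : G} {b : G → G}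

theorem not_isPGroup_mulAut (D : Dat Q t b) (A : Amb G) : ¬ IsPGroup 2 (MulAut (Rr Q b)) := by
  intro hp
  let α : MulAut (Rr Q b) :=
    { toFun := D.bR'
      invFun := fun x => D.bR' (D.bR' x)
      left_inv := D.bR'3
      right_inv := D.bR'3
      map_mul' := map_mul D.bR' }
  obtain ⟨k, hk⟩ := hp α
  have h3 : α ^ 3 = 1 := MulEquiv.ext fun x => D.bR'3 x
  have h1 : α = 1 := by
    have hcop : Nat.Coprime 3 (2 ^ k) := Nat.Coprime.pow_right k (by norm_num)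
    have := orderOf_dvd_of_pow_eq_one h3
    have h5 := orderOf_dvd_of_pow_eq_one hk
    have h6 := Nat.dvd_gcd this h5
    rw [Nat.Coprime.gcd_eq_one hcop] at h6
    exact orderOf_eq_one_iff.1 (Nat.dvd_one.1 h6)
  obtain ⟨g, hgR, hg⟩ := D.exists_notMem A.two
  obtain ⟨-, hgbg⟩ := D.b_notMem A.two hgR hg
  have h2 : D.bR' ⟨g, hgR⟩ = ⟨g, hgR⟩ := DFunLike.congr_fun h1 _
  have h4 : b g = g := congrArg Subtype.val h2
  apply hgbg
  rw [h4, inv_mul_cancel]
  exact one_mem _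

theorem shapes (D : Dat Q t b) (A : Amb G) :
    (∀ r ∈ Rr Q b, r ^ 2 = 1) ∨ Nonempty (Rr Q b ≃* QuaternionGroup 2) ∨
      ((∀ r ∈ Rr Q b, ∀ s ∈ Rr Q b, r * s = s * r) ∧
        ∃ m : ℕ, Even m ∧ ∀ r ∈ Rr Q b, (r ^ m = 1 ↔ r ∈ Sq (Rr Q b))) := by
  have hG := A.two
  rcases Cfsg.Agent.S1896.result (hG.to_subgroup (Rr Q b)) (D.isMetacyclic_R A)
    (D.not_isPGroup_mulAut A) with h | ⟨n, ⟨e⟩⟩
  · exact Or.inr (Or.inl h)
  · have hab : ∀ r ∈ Rr Q b, ∀ s ∈ Rr Q b, r * s = s * r := by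
      intro r hr s hs
      have h1 : (⟨r, hr⟩ * ⟨s, hs⟩ : Rr Q b) = ⟨s, hs⟩ * ⟨r, hr⟩ := by
        apply e.injective
        rw [map_mul, map_mul, mul_comm]
      exact congrArg Subtype.val h1
    have hsqR : ∀ r ∈ Sq (Rr Q b), ∃ s ∈ Rr Q b, r = s ^ 2 := by
      intro r hr
      refine Subgroup.closure_induction (p := fun x _ => ∃ s ∈ Rr Q b, x = s ^ 2) ?_ ?_ ?_ ?_ hr
      · rintro _ ⟨h, hh, rfl⟩
        exact ⟨h, hh, rfl⟩
      · exact ⟨1, one_mem _, by simp⟩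
      · rintro a c - - ⟨s, hs, rfl⟩ ⟨s', hs', rfl⟩
        exact ⟨s * s', mul_mem hs hs', ((show Commute s s' from hab s hs s' hs').mul_pow 2).symm⟩
      · rintro a - ⟨s, hs, rfl⟩
        exact ⟨s⁻¹, inv_mem hs, by rw [inv_pow]⟩
    rcases Nat.lt_or_ge n 2 with hn | hn
    · left
      intro r hr
      have h1 : (⟨r, hr⟩ : Rr Q b) ^ 2 = 1 := by
        apply e.injective
        rw [map_pow, map_one]
        have h2 : ∀ x : Multiplicative (ZMod (2 ^ n)), x ^ 2 = 1 := by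
          intro x
          interval_cases n
          · revert x; decide
          · revert x; decide
        exact Prod.ext (h2 _) (h2 _)
      exact congrArg Subtype.val h1
    · right; right
      refine ⟨hab, 2 ^ (n - 1), ?_, ?_⟩
      · obtain ⟨m, rfl⟩ : ∃ m, n = m + 2 := ⟨n - 2, by omega⟩
        exact ⟨2 ^ m, by rw [show m + 2 - 1 = m + 1 by omega]; ring⟩
      · intro r hr
        have hmul : ∀ k : ℕ, r ^ k = 1 ↔ (e ⟨r, hr⟩) ^ k = 1 := by
          intro k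
          rw [← map_pow, ← map_one e, e.injective.eq_iff]
          exact ⟨fun h => Subtype.ext h, fun h => congrArg Subtype.val h⟩
        rw [hmul]
        constructor
        · intro h
          have h1 : (e ⟨r, hr⟩).1 ^ 2 ^ (n - 1) = 1 := congrArg Prod.fst h
          have h2 : (e ⟨r, hr⟩).2 ^ 2 ^ (n - 1) = 1 := congrArg Prod.snd h
          obtain ⟨y1, hy1⟩ := (zmod_pow_iff (by omega) _).1 h1
          obtain ⟨y2, hy2⟩ := (zmod_pow_iff (by omega) _).1 h2
          have h3 : (⟨r, hr⟩ : Rr Q b) = (e.symm (y1, y2)) ^ 2 := by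
            apply e.injective
            rw [map_pow, e.apply_symm_apply]
            exact Prod.ext hy1 hy2
          have h4 : r = ((e.symm (y1, y2) : Rr Q b) : G) ^ 2 := congrArg Subtype.val h3
          rw [h4]
          exact sq_mem_Sq (e.symm (y1, y2)).2
        · intro h
          obtain ⟨s, hs, hrs⟩ := hsqR r h
          have h3 : (⟨r, hr⟩ : Rr Q b) = (⟨s, hs⟩ : Rr Q b) ^ 2 := Subtype.ext hrs
          rw [h3, map_pow]
          refine Prod.ext ?_ ?_
          · exact (zmod_pow_iff (by omega) _).2 ⟨_, rfl⟩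
          · exact (zmod_pow_iff (by omega) _).2 ⟨_, rfl⟩

end Dat

end Cfsg.Agent.H774
end

-- part: H774/DatH
section
/-!
# The homocyclic case (helper774)
-/

set_option autoImplicit false
set_option linter.unusedSectionVars false

namespace Cfsg.Agent.H774

open Subgroup Cfsg.Agent.OddOrderLocal.Metacyclic

/-- In a metacyclic group an elementary abelian group of order at least four contains all involutions
commuting with it. -/
theorem mem_of_commute {G : Type*} [Group G] [Finite G] {M E : Subgroup G} (hM : Cfsg.IsMetacyclic M)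
    (hE : E ≤ M) (hE2 : ∀ e ∈ E, e ^ 2 = 1) (hE4 : 4 ≤ Nat.card E) {c : G} (hcM : c ∈ M)
    (hc2 : c ^ 2 = 1) (hcE : ∀ e ∈ E, c * e = e * c) : c ∈ E := by
  have hcc : c * c = 1 := by rw [← pow_two]; exact hc2
  have hcx : ∀ x, c * x ∈ E → c * x = x * c := by
    intro x hx
    have h1 := hcE _ hx
    rw [← mul_assoc, hcc, one_mul] at h1
    calc c * x = c * (c * x * c) := by rw [← h1]
      _ = (c * c) * x * c := by simp only [mul_assoc]
      _ = x * c := by rw [hcc, one_mul]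
  have hcx' : ∀ x, (x ∈ E ∨ c * x ∈ E) → c * x = x * c := by
    rintro x (hx | hx)
    · exact hcE x hx
    · exact hcx x hx
  let K : Subgroup G :=
    { carrier := {x | x ∈ E ∨ c * x ∈ E}
      one_mem' := Or.inl (one_mem _)
      mul_mem' := by
        rintro x y (hx | hx) (hy | hy)
        · exact Or.inl (mul_mem hx hy)
        · refine Or.inr ?_
          rw [← mul_assoc, hcE x hx, mul_assoc]
          exact mul_mem hx hy
        · refine Or.inr ?_
          rw [← mul_assoc]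
          exact mul_mem hx hy
        · refine Or.inl ?_
          have h1 : (c * x) * (c * y) = x * y := by
            rw [hcx x hx, mul_assoc, ← mul_assoc c c, hcc, one_mul]
          rw [← h1]
          exact mul_mem hx hy
      inv_mem' := by
        rintro x (hx | hx)
        · exact Or.inl (inv_mem hx)
        · refine Or.inr ?_
          have h1 : c * x⁻¹ = (c * x)⁻¹ := by
            have h2 : c⁻¹ = c := inv_eq_of_mul_eq_one_left hcc
            rw [hcx x hx, mul_inv_rev, h2]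
          rw [h1]
          exact inv_mem hx }
  have hEK : E ≤ K := fun e he => Or.inl he
  have hKM : K ≤ M := by
    rintro x (hx | hx)
    · exact hE hx
    · have h1 : x = c * (c * x) := by rw [← mul_assoc, hcc, one_mul]
      rw [h1]
      exact mul_mem hcM (hE hx)
  have hK2 : ∀ x ∈ K, x ^ 2 = 1 := by
    rintro x (hx | hx)
    · exact hE2 x hx
    · have h1 := hE2 _ hx
      rw [(show Commute c x from hcx x hx).mul_pow, hc2, one_mul] at h1
      exact h1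
  have hK4 : Nat.card K ≤ 4 := card_le_four (isMetacyclic_of_le hM hKM)
    (fun x => Subtype.ext (hK2 x x.2))
  have hEK' : E = K := Subgroup.eq_of_le_of_card_ge hEK (hK4.trans hE4)
  rw [hEK']
  refine Or.inr ?_
  rw [hcc]
  exact one_mem _

/-- `G = ⟨s, t⟩` with commuting `s`, `t` is impossible. -/
theorem Amb.false_of_gen {G : Type*} [Group G] [Finite G] (A : Amb G) {s t : G} (hst : s * t = t * s)
    (hgen : Subgroup.closure {s, t} ⊔ Sq (⊤ : Subgroup G) = ⊤) : False := by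
  have h1 : Subgroup.closure {s, t} = ⊤ :=
    eq_of_le_sup_Sq (A.two.to_subgroup ⊤) le_top (by rw [hgen])
  have h2 := comm_mem_of_closure (N := (⊥ : Subgroup G)) h1 (by rw [mem_bot, hst]; group)
  apply A.nab
  intro a b
  have := h2 a b
  rw [mem_bot] at this
  exact mul_inv_eq_iff_eq_mul.1 (mul_inv_eq_one.1 this)

theorem Amb.Sq_conj {G : Type*} [Group G] {s : G} (hs : s ∈ Sq (⊤ : Subgroup G)) (g : G) :
    g * s * g⁻¹ ∈ Sq (⊤ : Subgroup G) := conj_mem_Sq (fun _ _ => mem_top _) hs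

namespace Dat

variable {G : Type*} [Group G] [Finite G] {Q : Subgroup G} {t : G} {b : G → G}

/-- elements of `N(Q)` normalize `R` -/
theorem normR (D : Dat Q t b) {τ r : G} (hτ : ∀ q ∈ Q, τ * q * τ⁻¹ ∈ Q) (hr : r ∈ Rr Q b) :
    τ * r * τ⁻¹ ∈ Rr Q b := by
  rcases D.norm τ hτ with h | h
  · exact D.QR h hr
  · have h1 : τ * r * τ⁻¹ = t * ((t⁻¹ * τ) * r * (t⁻¹ * τ)⁻¹) * t⁻¹ := by group
    rw [h1]
    exact D.tR (D.QR h hr)

theorem t_sq_mem (D : Dat Q t b) : t ^ 2 ∈ Q := by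
  rcases D.norm (t ^ 2) (fun q hq => by
    have h1 : t ^ 2 * q * (t ^ 2)⁻¹ = t * (t * q * t⁻¹) * t⁻¹ := by simp only [pow_two]; group
    rw [h1]
    exact D.tN _ (D.tN q hq)) with h | h
  · exact h
  · rw [pow_two, inv_mul_cancel_left] at h
    exact absurd h D.tQ

theorem mem_normalizer_Q (D : Dat Q t b) {g : G} :
    g ∈ normalizer (Q : Set G) ↔ ∀ q ∈ Q, g * q * g⁻¹ ∈ Q :=
  ⟨fun h q hq => (mem_normalizer_iff.1 h q).1 hq, fun h => mem_normalizer_of_conj h⟩

/-- `C` has at most two elements if it meets `Sq ⊤` trivially -/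
theorem exists_s (D : Dat Q t b) (A : Amb G) (hCS : ∀ c ∈ D.C, c ∈ Sq (⊤ : Subgroup G) → c = 1) :
    ∃ s ∈ D.C, ∀ c ∈ D.C, c = 1 ∨ c = s := by
  have hCne : D.C ≠ ⊤ := fun h => D.Q_ne_top (top_le_iff.1 (h ▸ D.C_le))
  have h1 := A.rel D.C hCne
  have h2 : (Sq (⊤ : Subgroup G)).relIndex D.C = Nat.card D.C := by
    rw [← inf_relIndex_right, ← relIndex_bot_left]
    congr 1
    rw [eq_bot_iff]
    rintro x ⟨hx1, hx2⟩
    exact hCS x hx2 hx1
  rw [h2] at h1
  by_cases hC : ∀ c ∈ D.C, c = 1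
  · exact ⟨1, one_mem _, fun c hc => Or.inl (hC c hc)⟩
  · push Not at hC
    obtain ⟨s, hs, hs1⟩ := hC
    refine ⟨s, hs, fun c hc => ?_⟩
    by_contra hcon
    push Not at hcon
    have h3 : ({1, s, c} : Set G) ⊆ (D.C : Set G) := by
      rintro x (rfl | rfl | rfl)
      · exact one_mem _
      · exact hs
      · exact hc
    have h4 := Set.ncard_le_ncard h3 (Set.toFinite _)
    have h5 : ({1, s, c} : Set G).ncard = 3 := by
      rw [Set.ncard_eq_three]
      exact ⟨1, s, c, hs1.symm, hcon.1.symm, hcon.2.symm, rfl⟩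
    have h6 : (D.C : Set G).ncard = Nat.card D.C := rfl
    omega

section homocyclic

variable (D : Dat Q t b) (A : Amb G) (hab : ∀ r ∈ Rr Q b, ∀ s ∈ Rr Q b, r * s = s * r)
  {m : ℕ} (hme : Even m) (hm : ∀ r ∈ Rr Q b, (r ^ m = 1 ↔ r ∈ Sq (Rr Q b)))

include D A hab hme hm

/-- `E = Ω₁(R)` -/
theorem exists_E : ∃ E : Subgroup G, (∀ e, e ∈ E ↔ e ∈ Rr Q b ∧ e ^ 2 = 1) ∧ E ≤ Sq (Rr Q b) ∧
    4 ≤ Nat.card E ∧ (∀ q ∈ Q, ∀ e ∈ E, q * e = e * q) ∧
    ∀ τ, (∀ q ∈ Q, τ * q * τ⁻¹ ∈ Q) → (∀ e ∈ E, τ * e = e * τ) → τ ∈ Q := by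
  have hG := A.two
  let E : Subgroup G :=
    { carrier := {e | e ∈ Rr Q b ∧ e ^ 2 = 1}
      one_mem' := ⟨one_mem _, one_pow 2⟩
      mul_mem' := by
        rintro x y ⟨hx, hx2⟩ ⟨hy, hy2⟩
        exact ⟨mul_mem hx hy, by
          rw [(show Commute x y from hab x hx y hy).mul_pow, hx2, hy2, one_mul]⟩
      inv_mem' := by
        rintro x ⟨hx, hx2⟩
        exact ⟨inv_mem hx, by rw [inv_pow, hx2, inv_one]⟩ }
  have hmem : ∀ e, e ∈ E ↔ e ∈ Rr Q b ∧ e ^ 2 = 1 := fun e => Iff.rfl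
  have hES : E ≤ Sq (Rr Q b) := by
    rintro e ⟨he, he2⟩
    rw [← hm e he]
    obtain ⟨k, hk⟩ := hme
    rw [hk, ← two_mul, pow_mul, he2, one_pow]
  have hπ : ∀ r ∈ Rr Q b, r ^ m ∈ E := by
    intro r hr
    refine ⟨pow_mem hr m, ?_⟩
    rw [← pow_mul, mul_comm, pow_mul]
    exact (hm _ (pow_mem hr 2)).2 (sq_mem_Sq hr)
  have hπe : ∀ r ∈ Rr Q b, ∀ s ∈ Rr Q b, (r ^ m = s ^ m ↔ r⁻¹ * s ∈ Sq (Rr Q b)) := by
    intro r hr s hs
    rw [← hm _ (mul_mem (inv_mem hr) hs), (show Commute r⁻¹ s from hab _ (inv_mem hr) s hs).mul_pow,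
      inv_pow, inv_mul_eq_one]
  obtain ⟨g, hgR, hg⟩ := D.exists_notMem hG
  obtain ⟨hbg, hgbg⟩ := D.b_notMem hG hgR hg
  let E' : Subgroup G :=
    { carrier := {e | ∃ r ∈ Rr Q b, e = r ^ m}
      one_mem' := ⟨1, one_mem _, by simp⟩
      mul_mem' := by
        rintro _ _ ⟨r, hr, rfl⟩ ⟨s, hs, rfl⟩
        exact ⟨r * s, mul_mem hr hs, ((show Commute r s from hab r hr s hs).mul_pow m).symm⟩
      inv_mem' := by
        rintro _ ⟨r, hr, rfl⟩
        exact ⟨r⁻¹, inv_mem hr, by rw [inv_pow]⟩ }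
  have hE'E : E' ≤ E := by
    rintro _ ⟨r, hr, rfl⟩
    exact hπ r hr
  have hE'4 : 4 ≤ Nat.card E' := by
    have hsub : ({1, g ^ m, (b g) ^ m, (g * b g) ^ m} : Set G) ⊆ (E' : Set G) := by
      rintro x (rfl | rfl | rfl | rfl)
      · exact one_mem _
      · exact ⟨g, hgR, rfl⟩
      · exact ⟨_, D.bR hgR, rfl⟩
      · exact ⟨_, mul_mem hgR (D.bR hgR), rfl⟩
    have h1 := Set.ncard_le_ncard hsub (Set.toFinite _)
    have a1 : (1 : G) ≠ g ^ m := fun h => hg ((hm g hgR).1 h.symm)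
    have a2 : (1 : G) ≠ (b g) ^ m := fun h => hbg ((hm _ (D.bR hgR)).1 h.symm)
    have a3 : (1 : G) ≠ (g * b g) ^ m := by
      intro h
      apply hgbg
      have h2 := (hm _ (mul_mem hgR (D.bR hgR))).1 h.symm
      have h3 : g⁻¹ * b g = (g ^ 2)⁻¹ * (g * b g) := by rw [pow_two]; group
      rw [h3]
      exact mul_mem (inv_mem (sq_mem_Sq hgR)) h2
    have a4 : g ^ m ≠ (b g) ^ m := fun h => hgbg ((hπe g hgR _ (D.bR hgR)).1 h)
    have a5 : g ^ m ≠ (g * b g) ^ m := by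
      intro h
      have h2 := (hπe g hgR _ (mul_mem hgR (D.bR hgR))).1 h
      rw [inv_mul_cancel_left] at h2
      exact hbg h2
    have a6 : (b g) ^ m ≠ (g * b g) ^ m := by
      intro h
      have h2 := (hπe _ (D.bR hgR) _ (mul_mem hgR (D.bR hgR))).1 h
      rw [hab g hgR _ (D.bR hgR), inv_mul_cancel_left] at h2
      exact hg h2
    have h5 : ({1, g ^ m, (b g) ^ m, (g * b g) ^ m} : Set G).ncard = 4 := by
      rw [Set.ncard_insert_of_notMem (by
        simp only [Set.mem_insert_iff, Set.mem_singleton_iff]; tauto)]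
      have : ({g ^ m, (b g) ^ m, (g * b g) ^ m} : Set G).ncard = 3 := by
        rw [Set.ncard_eq_three]
        exact ⟨_, _, _, a4, a5, a6, rfl⟩
      omega
    have h6 : (E' : Set G).ncard = Nat.card E' := rfl
    omega
  have hEM : Nat.card E ≤ 4 := card_le_four (isMetacyclic_of_le A.met (hES.trans (Sq_mono le_top)))
    (fun x => Subtype.ext x.2.2)
  have hEE : E' = E := Subgroup.eq_of_le_of_card_ge hE'E (hEM.trans hE'4)
  have hE4 : 4 ≤ Nat.card E := hEE ▸ hE'4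
  -- every element of `E` is an `m`-th power
  have hEπ : ∀ e ∈ E, ∃ r ∈ Rr Q b, e = r ^ m := by
    intro e he
    rw [← hEE] at he
    exact he
  refine ⟨E, hmem, hES, hE4, ?_, ?_⟩
  · intro q hq e he
    obtain ⟨r, hr, rfl⟩ := hEπ e he
    have h1 := D.Q_trivial A hq hr
    have h2 := (hπe r hr _ (D.QR hq hr)).2 h1
    rw [conj_pow] at h2
    exact (eq_mul_inv_iff_mul_eq.1 h2).symm
  · intro τ hτ hτE
    refine D.mem_Q_of_trivial A hτ fun r hr => ?_
    rw [← hπe r hr _ (D.normR hτ hr), conj_pow, hτE _ (hπ r hr), mul_inv_cancel_right]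

/-- `Q` is normal. -/
theorem Q_normal : ∀ g : G, ∀ q ∈ Q, g * q * g⁻¹ ∈ Q := by
  have hG := A.two
  obtain ⟨E, hmem, hES, hE4, hQE, hEQ⟩ := D.exists_E A hab hme hm
  by_contra hcon
  have hT : normalizer (Q : Set G) ≠ ⊤ := by
    intro h
    apply hcon
    intro g
    exact D.mem_normalizer_Q.1 (h ▸ mem_top g)
  have hNC : NormalizerCondition G := by
    have : Fact (Nat.Prime 2) := ⟨Nat.prime_two⟩
    haveI := hG.isNilpotent
    exact Group.normalizerCondition_of_isNilpotent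
  obtain ⟨h, hhN, hhT⟩ := SetLike.exists_of_lt
    (hNC (normalizer (Q : Set G)) (lt_top_iff_ne_top.2 hT))
  have hhN' : ∀ τ, (∀ q ∈ Q, τ * q * τ⁻¹ ∈ Q) → ∀ q ∈ Q, (h * τ * h⁻¹) * q * (h * τ * h⁻¹)⁻¹ ∈ Q := by
    intro τ hτ
    exact D.mem_normalizer_Q.1 ((mem_normalizer_iff.1 hhN τ).1 (D.mem_normalizer_Q.2 hτ))
  have hhN'' : ∀ τ, (∀ q ∈ Q, τ * q * τ⁻¹ ∈ Q) → ∀ q ∈ Q, (h⁻¹ * τ * h) * q * (h⁻¹ * τ * h)⁻¹ ∈ Q := by
    intro τ hτ
    have h1 := (mem_normalizer_iff.1 (inv_mem hhN) τ).1 (D.mem_normalizer_Q.2 hτ)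
    rw [inv_inv] at h1
    exact D.mem_normalizer_Q.1 h1
  have hQT : ∀ τ ∈ Q, ∀ q ∈ Q, τ * q * τ⁻¹ ∈ Q := fun τ hτ q hq =>
    mul_mem (mul_mem hτ hq) (inv_mem hτ)
  have hEQ' : E ≤ Q := hES.trans ((Sq_le _).trans D.R_le)
  have hTE : ∀ τ, (∀ q ∈ Q, τ * q * τ⁻¹ ∈ Q) → ∀ e ∈ E, τ * e * τ⁻¹ ∈ E := by
    intro τ hτ e he
    rw [hmem] at he ⊢
    exact ⟨D.normR hτ he.1, by rw [conj_pow, he.2]; group⟩
  by_cases hE : ∀ e ∈ E, h * e * h⁻¹ ∈ E
  · apply hhT
    rw [D.mem_normalizer_Q]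
    intro q hq
    refine hEQ _ (hhN' q (hQT q hq)) (fun e he => ?_)
    have h1 := conj_eq_of_le hE he
    have h2 := hQE q hq _ h1
    calc h * q * h⁻¹ * e = h * (q * (h⁻¹ * e * h)) * h⁻¹ := by group
      _ = h * ((h⁻¹ * e * h) * q) * h⁻¹ := by rw [h2]
      _ = e * (h * q * h⁻¹) := by group
  · push Not at hE
    obtain ⟨e₀, he₀, he₀'⟩ := hE
    by_cases hEh : ∀ e ∈ E, h * e * h⁻¹ ∈ Q
    · apply he₀'
      refine mem_of_commute A.met (hES.trans (Sq_mono le_top)) (fun e he => ((hmem e).1 he).2) hE4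
        ?_ ?_ (fun e he => hQE _ (hEh e₀ he₀) e he)
      · exact Amb.Sq_conj ((hES.trans (Sq_mono le_top)) he₀) h
      · rw [conj_pow, ((hmem e₀).1 he₀).2]; group
    · push Not at hEh
      obtain ⟨e₁, he₁, he₁'⟩ := hEh
      apply he₁'
      have hτ := hhN' e₁ (hQT e₁ (hEQ' he₁))
      refine D.mem_Q_of_trivial A hτ fun r hr => ?_
      apply hES
      rw [hmem]
      refine ⟨mul_mem (inv_mem hr) (D.normR hτ hr), ?_⟩
      -- the element is in `h E h⁻¹`
      have h1 : h⁻¹ * (r⁻¹ * (h * e₁ * h⁻¹) * r) * h ∈ E := by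
        have h2 := hTE _ (hhN'' r⁻¹ (hQT r⁻¹ (inv_mem (D.R_le hr)))) e₁ he₁
        have h3 : h⁻¹ * (r⁻¹ * (h * e₁ * h⁻¹) * r) * h = h⁻¹ * r⁻¹ * h * e₁ * (h⁻¹ * r⁻¹ * h)⁻¹ := by
          group
        rw [h3]
        exact h2
      have h2 : h⁻¹ * (r⁻¹ * (h * e₁ * h⁻¹ * r * (h * e₁ * h⁻¹)⁻¹)) * h ∈ E := by
        have h3 : h⁻¹ * (r⁻¹ * (h * e₁ * h⁻¹ * r * (h * e₁ * h⁻¹)⁻¹)) * h =
            (h⁻¹ * (r⁻¹ * (h * e₁ * h⁻¹) * r) * h) * e₁⁻¹ := by group
        rw [h3]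
        exact mul_mem h1 (inv_mem he₁)
      have h3 := ((hmem _).1 h2).2
      have h4 : ∀ x : G, (h⁻¹ * x * h) ^ 2 = 1 → x ^ 2 = 1 := by
        intro x hx
        have h5 : (h⁻¹ * x * h) ^ 2 = h⁻¹ * x ^ 2 * h := by simp only [pow_two]; group
        rw [h5] at hx
        calc x ^ 2 = h * (h⁻¹ * x ^ 2 * h) * h⁻¹ := by group
          _ = 1 := by rw [hx]; group
      exact h4 _ h3

/-- The commutator subgroup is cyclic in the homocyclic case. -/
theorem isCyclic_homocyclic : IsCyclic (_root_.commutator G) := by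
  have hG := A.two
  obtain ⟨E, hmem, hES, hE4, hQE, hEQ⟩ := D.exists_E A hab hme hm
  have hQn := D.Q_normal A hab hme hm
  have hES' : E ≤ Sq (⊤ : Subgroup G) := hES.trans (Sq_mono le_top)
  have hE2 : ∀ e ∈ E, e ^ 2 = 1 := fun e he => ((hmem e).1 he).2
  -- `C ∩ R = 1`
  have hCR : ∀ c ∈ D.C, c ∈ Rr Q b → c = 1 := by
    intro c hc hcR
    have h1 := D.mem_of_fixed hG (N := ⊥) (fun x hx y hy => by
      rw [mem_bot, hab x hx y hy]; group) (fun r _ n hn => by
      rw [mem_bot] at hn ⊢; rw [hn]; group) (fun n hn _ => by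
      rw [mem_bot] at hn ⊢; rw [hn, D.b1]) hcR (by rw [hc.2, mem_bot]; group)
    exact mem_bot.1 h1
  have hCS : ∀ c ∈ D.C, c ∈ Sq (⊤ : Subgroup G) → c = 1 := by
    have key : ∀ k : ℕ, ∀ c ∈ D.C, c ∈ Sq (⊤ : Subgroup G) → c ^ 2 ^ k = 1 → c = 1 := by
      intro k
      induction k with
      | zero =>
        intro c _ _ h
        rwa [pow_zero, pow_one] at h
      | succ k ih =>
        intro c hc hcS h
        have h1 := ih (c ^ 2) (pow_mem hc 2) (pow_mem hcS 2)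
          (by rw [← pow_mul, ← h]; congr 1; ring)
        have h2 := mem_of_commute A.met hES' hE2 hE4 hcS h1 (fun e he => hQE c hc.1 e he)
        exact hCR c hc ((hmem c).1 h2).1
    intro c hc hcS
    obtain ⟨k, hk⟩ := hG c
    exact key k c hc hcS hk
  obtain ⟨s, hs, hCs⟩ := D.exists_s A hCS
  have hQtQ : ∀ g : G, g ∈ Q ∨ t⁻¹ * g ∈ Q := fun g => D.norm g (hQn g)
  have htc : t * s * t⁻¹ = s := by
    by_cases hs1 : s = 1
    · rw [hs1]; group
    · rcases hCs _ (D.tC hs) with h | h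
      · exfalso
        apply hs1
        calc s = t⁻¹ * (t * s * t⁻¹) * t := by group
          _ = 1 := by rw [h]; group
      · exact h
  have hst : s * t = t * s := by
    rw [mul_inv_eq_iff_eq_mul] at htc
    exact htc.symm
  have hRn : (Rr Q b).Normal := ⟨fun r hr g => D.normR (hQn g) hr⟩
  by_cases hs1 : s = 1
  · -- `Q = R`
    have hC1 : ∀ c ∈ D.C, c = 1 := by
      intro c hc
      rcases hCs c hc with h | h
      · exact h
      · rw [h, hs1]
    have hQR : ∀ q ∈ Q, q ∈ Rr Q b := by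
      intro q hq
      obtain ⟨c, hc, hc1, r, hr, rfl⟩ := D.exists_mul hG hq
      rw [hC1 c ⟨hc, hc1⟩, one_mul]
      exact hr
    have hQab : ∀ p ∈ Q, ∀ q ∈ Q, p * q = q * p := fun p hp q hq => hab p (hQR p hp) q (hQR q hq)
    let N : Subgroup G :=
      { carrier := {d | d ∈ Q ∧ t * d * t⁻¹ = d⁻¹}
        one_mem' := ⟨one_mem _, by simp⟩
        mul_mem' := by
          rintro x y ⟨hx, hx'⟩ ⟨hy, hy'⟩
          refine ⟨mul_mem hx hy, ?_⟩
          have h1 : t * (x * y) * t⁻¹ = (t * x * t⁻¹) * (t * y * t⁻¹) := by group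
          rw [h1, hx', hy', ← mul_inv_rev, hQab y hy x hx]
        inv_mem' := by
          rintro x ⟨hx, hx'⟩
          refine ⟨inv_mem hx, ?_⟩
          have h1 : t * x⁻¹ * t⁻¹ = (t * x * t⁻¹)⁻¹ := by group
          rw [h1, hx'] }
    have ht2 := D.t_sq_mem
    have hNn : N.Normal := by
      refine ⟨?_⟩
      rintro d ⟨hd, hd'⟩ g
      have key : ∀ q ∈ Q, q * d * q⁻¹ = d := fun q hq => by rw [hQab q hq d hd]; group
      rcases hQtQ g with h | h
      · rw [key g h]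
        exact ⟨hd, hd'⟩
      · have h1 : g * d * g⁻¹ = t * ((t⁻¹ * g) * d * (t⁻¹ * g)⁻¹) * t⁻¹ := by group
        rw [h1, key _ h, hd']
        exact inv_mem ⟨hd, hd'⟩
    have hcN : _root_.commutator G ≤ N := by
      -- commutators with `t`
      have hqt : ∀ q ∈ Q, t * q * t⁻¹ * q⁻¹ ∈ N := by
        intro q hq
        refine ⟨mul_mem (D.tN q hq) (inv_mem hq), ?_⟩
        have h1 : t * (t * q * t⁻¹ * q⁻¹) * t⁻¹ = (t ^ 2 * q * (t ^ 2)⁻¹) * (t * q⁻¹ * t⁻¹) := by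
          simp only [pow_two]; group
        have h2 : t ^ 2 * q * (t ^ 2)⁻¹ = q := by rw [hQab _ ht2 q hq]; group
        rw [h1, h2]
        group
      let f := QuotientGroup.mk' N
      have hf1 : ∀ a, f a = 1 ↔ a ∈ N := fun a => QuotientGroup.eq_one_iff a
      have hcq : ∀ q ∈ Q, Commute (f t) (f q) := by
        intro q hq
        have h2 : f t * f q * (f t)⁻¹ * (f q)⁻¹ = 1 := by
          rw [← (hf1 _).2 (hqt q hq)]; simp
        exact mul_inv_eq_iff_eq_mul.1 (mul_inv_eq_one.1 h2)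
      have hqq : ∀ p ∈ Q, ∀ q ∈ Q, Commute (f p) (f q) := fun p hp q hq => by
        show f p * f q = f q * f p
        rw [← map_mul, hQab p hp q hq, map_mul]
      have hall : ∀ g h : G, Commute (f g) (f h) := by
        have hrep : ∀ g : G, f g ∈ (f '' (Q : Set G)) ∨ ∃ q ∈ Q, f g = f t * f q := by
          intro g
          rcases hQtQ g with h | h
          · exact Or.inl ⟨g, h, rfl⟩
          · exact Or.inr ⟨_, h, by rw [← map_mul, mul_inv_cancel_left]⟩
        intro g h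
        rcases hrep g with ⟨p, hp, hpe⟩ | ⟨p, hp, hpe⟩ <;>
          rcases hrep h with ⟨q, hq, hqe⟩ | ⟨q, hq, hqe⟩
        · rw [← hpe, ← hqe]
          exact hqq p hp q hq
        · rw [← hpe, hqe]
          exact (hcq p hp).symm.mul_right (hqq p hp q hq)
        · rw [hpe, ← hqe]
          exact (hcq q hq).mul_left (hqq p hp q hq)
        · rw [hpe, hqe]
          exact ((Commute.refl _).mul_right (hcq q hq)).mul_left
            ((hcq p hp).symm.mul_right (hqq p hp q hq))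
      rw [_root_.commutator_def, commutator_le]
      intro g _ h _
      rw [← hf1]
      have h1 := hall g h
      show f (g * h * g⁻¹ * h⁻¹) = 1
      rw [map_mul, map_mul, map_mul, map_inv, map_inv, h1.eq]
      group
    refine isCyclic_of_unique_involution (hG.to_subgroup _)
      (fun a c => Subtype.ext (A.com a a.2 c c.2)) ?_
    rintro ⟨d, hd⟩ ⟨d', hd'⟩ h2 h2' hne hne'
    have e2 : d ^ 2 = 1 := congrArg Subtype.val h2
    have e2' : d' ^ 2 = 1 := congrArg Subtype.val h2'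
    have hd1 : d ≠ 1 := fun h => hne (Subtype.ext h)
    have hd1' : d' ≠ 1 := fun h => hne' (Subtype.ext h)
    have hfix : ∀ x ∈ _root_.commutator G, x ^ 2 = 1 → x ∈ E ∧ t * x = x * t := by
      intro x hx hx2
      obtain ⟨hx1, hx3⟩ := hcN hx
      refine ⟨(hmem x).2 ⟨hQR x hx1, hx2⟩, ?_⟩
      have h3 : x⁻¹ = x := inv_eq_of_mul_eq_one_left (by rw [← pow_two]; exact hx2)
      rw [h3, mul_inv_eq_iff_eq_mul] at hx3
      exact hx3
    obtain ⟨hdE, hdt⟩ := hfix d hd e2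
    obtain ⟨hdE', hdt'⟩ := hfix d' hd' e2'
    by_contra hne2
    have hne3 : d ≠ d' := fun h => hne2 (Subtype.ext h)
    apply D.tQ
    refine hEQ t D.tN ?_
    -- the fixed points of `t` in `E`
    let K : Subgroup G := E ⊓ centralizer ({t} : Set G)
    have hK : ∀ x, x ∈ K ↔ x ∈ E ∧ t * x = x * t := by
      intro x
      rw [mem_inf, mem_centralizer_singleton_iff]
      exact ⟨fun h => ⟨h.1, h.2.symm⟩, fun h => ⟨h.1, h.2.symm⟩⟩
    have hKE : K ≤ E := inf_le_left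
    have hsub : ({1, d, d'} : Set G) ⊆ (K : Set G) := by
      rintro x (rfl | rfl | rfl)
      · exact one_mem _
      · exact (hK _).2 ⟨hdE, hdt⟩
      · exact (hK _).2 ⟨hdE', hdt'⟩
    have h4 := Set.ncard_le_ncard hsub (Set.toFinite _)
    have h5 : ({1, d, d'} : Set G).ncard = 3 := by
      rw [Set.ncard_eq_three]
      exact ⟨1, d, d', hd1.symm, hd1'.symm, hne3, rfl⟩
    have h6 : (K : Set G).ncard = Nat.card K := rfl
    have hEM : Nat.card E ≤ 4 := card_le_four (isMetacyclic_of_le A.met hES')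
      (fun x => Subtype.ext (hE2 x x.2))
    have h7 : Nat.card K ∣ Nat.card E := card_dvd_of_le hKE
    have h8 : Nat.card E = 4 := le_antisymm hEM hE4
    have h9 : Nat.card K = 4 := by
      rw [h8] at h7
      have h10 : Nat.card K ≤ 4 := Nat.le_of_dvd (by norm_num) h7
      have h11 : 3 ≤ Nat.card K := by omega
      interval_cases h12 : Nat.card K
      · exact absurd h7 (by decide)
      · rfl
    have h10 : K = E := Subgroup.eq_of_le_of_card_ge hKE (by omega)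
    intro e he
    rw [← h10, hK] at he
    exact he.2
  · exfalso
    have hsS : s ∉ Sq (⊤ : Subgroup G) := fun h => hs1 (hCS s hs h)
    have hsR : s ∉ Rr Q b := fun h => hs1 (hCR s hs h)
    have hs2 : s ^ 2 = 1 := by
      have h1 : s ^ 2 ∈ Sq (⊤ : Subgroup G) := sq_mem_Sq (mem_top s)
      exact hCS _ (pow_mem hs 2) h1
    obtain ⟨c, hc, hc1, r, hr, ht2⟩ := D.exists_mul hG D.t_sq_mem
    have hQrep : ∀ q ∈ Q, ∃ r ∈ Rr Q b, q = r ∨ q = s * r := by
      intro q hq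
      obtain ⟨c, hc, hc1, r, hr, rfl⟩ := D.exists_mul hG hq
      rcases hCs c ⟨hc, hc1⟩ with h | h
      · exact ⟨r, hr, Or.inl (by rw [h, one_mul])⟩
      · exact ⟨r, hr, Or.inr (by rw [h])⟩
    rcases hCs c ⟨hc, hc1⟩ with h | h
    · -- `t ^ 2 ∈ R`
      rw [h, one_mul] at ht2
      let f := QuotientGroup.mk' (Rr Q b)
      have hf1 : ∀ a, f a = 1 ↔ a ∈ Rr Q b := fun a => QuotientGroup.eq_one_iff a
      have hfs : f s * f s = 1 := by rw [← map_mul, ← pow_two, hs2, map_one]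
      have hft : f t * f t = 1 := by
        rw [← map_mul, hf1, ← pow_two, ht2]
        exact hr
      have hfst : f s * f t = f t * f s := by rw [← map_mul, hst, map_mul]
      have hSR : Sq (⊤ : Subgroup G) ≤ Rr Q b := by
        rw [Sq_le_iff]
        intro g _
        rw [← hf1, map_pow, pow_two]
        have hrep : ∃ q ∈ Q, f g = f q ∨ f g = f t * f q := by
          rcases hQtQ g with h | h
          · exact ⟨g, h, Or.inl rfl⟩
          · exact ⟨_, h, Or.inr (by rw [← map_mul, mul_inv_cancel_left])⟩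
        have hq2 : ∀ q ∈ Q, f q = 1 ∨ f q = f s := by
          intro q hq
          obtain ⟨r, hr, h | h⟩ := hQrep q hq
          · left; rw [h]; exact (hf1 r).2 hr
          · right; rw [h, map_mul, (hf1 r).2 hr, mul_one]
        obtain ⟨q, hq, h | h⟩ := hrep
        · rcases hq2 q hq with h' | h'
          · rw [h, h', one_mul]
          · rw [h, h', hfs]
        · rcases hq2 q hq with h' | h'
          · rw [h, h', mul_one, hft]
          · rw [h, h']
            calc f t * f s * (f t * f s) = f t * (f s * f t) * f s := by group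
              _ = f t * (f t * f s) * f s := by rw [hfst]
              _ = (f t * f t) * (f s * f s) := by group
              _ = 1 := by rw [hft, hfs, one_mul]
      have hSQ : Sq (⊤ : Subgroup G) ≤ Q := hSR.trans D.R_le
      have htS : t ∉ Sq (⊤ : Subgroup G) := fun h => D.tQ (hSQ h)
      have hRS : ∀ r ∈ Rr Q b, r ∈ Sq (⊤ : Subgroup G) := by
        intro r hr
        have hn : (Sq (⊤ : Subgroup G)).Normal := Sq_normal
        rcases coset_four A.idx (fun g => sq_mem_Sq (mem_top g)) hsS htS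
          (fun h => D.tQ (by
            have := mul_mem hs.1 (hSQ h)
            rwa [mul_inv_cancel_left] at this)) r with h1 | h1 | h1 | h1
        · exact h1
        · exfalso
          apply hsR
          have h2 := mul_mem hr (inv_mem (hSR h1))
          have h3 : r * (s⁻¹ * r)⁻¹ = r * r⁻¹ * s := by group
          rw [h3, mul_inv_cancel, one_mul] at h2
          exact h2
        · exfalso
          apply D.tQ
          have h2 := mul_mem (D.R_le hr) (inv_mem (hSQ h1))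
          have h3 : r * (t⁻¹ * r)⁻¹ = t := by group
          rwa [h3] at h2
        · exfalso
          apply D.tQ
          have h2 := mul_mem (inv_mem hs.1) (mul_mem (D.R_le hr) (inv_mem (hSQ h1)))
          have h3 : s⁻¹ * (r * ((s * t)⁻¹ * r)⁻¹) = t := by group
          rwa [h3] at h2
      refine A.false_of_gen hst ?_
      rw [eq_top_iff]
      intro g _
      have hs' : s ∈ Subgroup.closure {s, t} ⊔ Sq (⊤ : Subgroup G) :=
        mem_sup_left (subset_closure (by simp))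
      have ht' : t ∈ Subgroup.closure {s, t} ⊔ Sq (⊤ : Subgroup G) :=
        mem_sup_left (subset_closure (by simp))
      have hq' : ∀ q ∈ Q, q ∈ Subgroup.closure {s, t} ⊔ Sq (⊤ : Subgroup G) := by
        intro q hq
        obtain ⟨r, hr, h | h⟩ := hQrep q hq
        · rw [h]; exact mem_sup_right (hRS r hr)
        · rw [h]; exact mul_mem hs' (mem_sup_right (hRS r hr))
      rcases hQtQ g with h | h
      · exact hq' g h
      · have := mul_mem ht' (hq' _ h)
        rwa [mul_inv_cancel_left] at this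
    · -- `t ^ 2 = s r`
      rw [h] at ht2
      have hrt : t * r * t⁻¹ = r := by
        have h1 : r = s⁻¹ * t ^ 2 := by rw [ht2]; group
        rw [h1]
        have h2 : t * s⁻¹ = s⁻¹ * t := ((show Commute s t from hst).inv_left).eq.symm
        calc t * (s⁻¹ * t ^ 2) * t⁻¹ = (t * s⁻¹) * t ^ 2 * t⁻¹ := by group
          _ = (s⁻¹ * t) * t ^ 2 * t⁻¹ := by rw [h2]
          _ = s⁻¹ * t ^ 2 := by simp only [pow_two]; group
      obtain ⟨y, hy, hyt⟩ := D.exists_moved A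
      have htR : ∀ r ∈ Rr Q b, t * r * t⁻¹ ∈ Rr Q b := fun r hr => D.tR hr
      set Y : Rr Q b := ⟨y, hy⟩ with hY
      have hne : fR _ Y ≠ fR _ (cj t htR Y) := fun h => hyt (fR_eq.1 h)
      have hcr : cj t htR (⟨r, hr⟩ : Rr Q b) = ⟨r, hr⟩ := Subtype.ext hrt
      have htt : fR _ (cj t htR (cj t htR Y)) = fR _ Y := by
        symm
        rw [fR_eq]
        have h3 := D.Q_trivial A D.t_sq_mem hy
        have h4 : t ^ 2 * y * (t ^ 2)⁻¹ = t * (t * y * t⁻¹) * t⁻¹ := by simp only [pow_two]; group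
        rw [h4] at h3
        exact h3
      have hy1 : y ∉ Sq (Rr Q b) := by
        intro h
        apply hyt
        exact mul_mem (inv_mem h) (conj_mem_Sq htR h)
      have hy2 : t * y * t⁻¹ ∉ Sq (Rr Q b) := by
        intro h
        apply hy1
        have h1 : t⁻¹ * (t * y * t⁻¹) * t = y := by group
        rw [← h1]
        have h2 := conj_mem_Sq (g := t⁻¹) (H := Rr Q b)
          (fun h hh => by rw [inv_inv]; exact conj_eq_of_le htR hh) h
        rwa [inv_inv] at h2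
      have hrS : r ∈ Sq (⊤ : Subgroup G) := by
        rcases D.cosets A hy (htR y hy) hy1 hy2 hyt hr with h1 | h1 | h1 | h1
        · exact Sq_mono le_top h1
        · exfalso
          have e1 : fR _ Y = fR _ (⟨r, hr⟩ : Rr Q b) := fR_eq.2 h1
          have e2 := f_cj htR e1
          rw [hcr, ← e1] at e2
          exact hne e2.symm
        · exfalso
          have e1 : fR _ (cj t htR Y) = fR _ (⟨r, hr⟩ : Rr Q b) := fR_eq.2 h1
          have e2 := f_cj htR e1
          rw [hcr, htt, ← e1] at e2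
          exact hne e2
        · have h2 : r = (y * (t * y * t⁻¹)) * ((y * (t * y * t⁻¹))⁻¹ * r) := by group
          have h3 : y * (t * y * t⁻¹) = y ^ 2 * (y⁻¹ * t * (y⁻¹)⁻¹ * t⁻¹) := by
            simp only [pow_two]; group
          rw [h2]
          refine mul_mem ?_ (Sq_mono le_top h1)
          rw [h3]
          exact mul_mem (sq_mem_Sq (mem_top y)) (comm_mem_Sq (mem_top _) (mem_top _))
      apply hsS
      have h1 : s = t ^ 2 * r⁻¹ := by rw [ht2]; group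
      rw [h1]
      exact mul_mem (sq_mem_Sq (mem_top t)) (inv_mem hrS)

end homocyclic

end Dat

end Cfsg.Agent.H774
end

-- part: H774/DatS
section
/-!
# The case where `R` is a four-group or quaternion of order eight: generalities (helper774)
-/

set_option autoImplicit false
set_option linter.unusedSectionVars false

namespace Cfsg.Agent.H774

open Subgroup Cfsg.Agent.OddOrderLocal.Metacyclic

/-- normalizers grow in 2-groups -/
theorem exists_normalizing {G : Type*} [Group G] [Finite G] {Q M : Subgroup G} (hM : IsPGroup 2 M)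
    (hQM : Q ≤ M) (hne : Q ≠ M) : ∃ τ ∈ M, τ ∉ Q ∧ ∀ q ∈ Q, τ * q * τ⁻¹ ∈ Q := by
  have : Fact (Nat.Prime 2) := ⟨Nat.prime_two⟩
  have hNC : NormalizerCondition M := by
    have := hM.isNilpotent
    exact Group.normalizerCondition_of_isNilpotent
  have h1 : Q.subgroupOf M ≠ ⊤ := by
    intro h
    rw [subgroupOf_eq_top] at h
    exact hne (le_antisymm hQM h)
  obtain ⟨τ, hτ, hτ'⟩ := SetLike.exists_of_lt (hNC _ (lt_top_iff_ne_top.2 h1))
  refine ⟨τ, τ.2, fun h => hτ' (mem_subgroupOf.2 h), fun q hq => ?_⟩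
  have := (mem_normalizer_iff.1 hτ ⟨q, hQM hq⟩).1 (mem_subgroupOf.2 hq)
  exact mem_subgroupOf.1 this

theorem commutator_le_Sq (G : Type*) [Group G] : _root_.commutator G ≤ Sq (⊤ : Subgroup G) := by
  rw [_root_.commutator_def, commutator_le]
  intro a _ b _
  exact comm_mem_Sq (mem_top a) (mem_top b)

namespace Dat

variable {G : Type*} [Group G] [Finite G] {Q : Subgroup G} {t : G} {b : G → G}

/-- an element acting trivially on two independent classes acts trivially on `R / Φ(R)`. -/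
theorem trivial_of_two (D : Dat Q t b) (A : Amb G) {τ : G} (hτ : ∀ r ∈ Rr Q b, τ * r * τ⁻¹ ∈ Rr Q b)
    {g h : G} (hgR : g ∈ Rr Q b) (hhR : h ∈ Rr Q b) (hg : g ∉ Sq (Rr Q b)) (hh : h ∉ Sq (Rr Q b))
    (hgh : g⁻¹ * h ∉ Sq (Rr Q b)) (h1 : g⁻¹ * (τ * g * τ⁻¹) ∈ Sq (Rr Q b))
    (h2 : h⁻¹ * (τ * h * τ⁻¹) ∈ Sq (Rr Q b)) : ∀ r ∈ Rr Q b, r⁻¹ * (τ * r * τ⁻¹) ∈ Sq (Rr Q b) := by
  let K : Subgroup G :=
    { carrier := {r | ∃ h : r ∈ Rr Q b, fR _ (cj τ hτ ⟨r, h⟩) = fR _ ⟨r, h⟩}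
      one_mem' := ⟨one_mem _, by
        have : (⟨1, one_mem _⟩ : Rr Q b) = 1 := rfl
        rw [this, map_one]⟩
      mul_mem' := by
        rintro p q ⟨hp, hp'⟩ ⟨hq, hq'⟩
        refine ⟨mul_mem hp hq, ?_⟩
        have : (⟨p * q, mul_mem hp hq⟩ : Rr Q b) = ⟨p, hp⟩ * ⟨q, hq⟩ := rfl
        rw [this, map_mul, map_mul, map_mul, hp', hq']
      inv_mem' := by
        rintro p ⟨hp, hp'⟩
        refine ⟨inv_mem hp, ?_⟩
        have : (⟨p⁻¹, inv_mem hp⟩ : Rr Q b) = (⟨p, hp⟩)⁻¹ := rfl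
        rw [this, map_inv, map_inv, map_inv, hp'] }
  have hK : K = Rr Q b :=
    D.eq_R_of_mem A (g := g) (h := h) (fun r hr => hr.1) ⟨hgR, (fR_eq.2 h1).symm⟩
      ⟨hhR, (fR_eq.2 h2).symm⟩ hg hh hgh
  intro r hr
  rw [← hK] at hr
  obtain ⟨h1, h3⟩ := hr
  exact fR_eq.1 h3.symm

/-- `C_G(R) ≤ Q`. -/
theorem centralizer_le (D : Dat Q t b) (A : Amb G) {x : G} (hx : ∀ r ∈ Rr Q b, x * r = r * x) :
    x ∈ Q := by
  have hG := A.two
  let M : Subgroup G :=
    { carrier := {m | ∃ q ∈ Q, ∃ y : G, (∀ r ∈ Rr Q b, y * r = r * y) ∧ m = q * y}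
      one_mem' := ⟨1, one_mem _, 1, fun r _ => by simp, by simp⟩
      mul_mem' := by
        rintro _ _ ⟨q, hq, y, hy, rfl⟩ ⟨q', hq', y', hy', rfl⟩
        refine ⟨q * q', mul_mem hq hq', q'⁻¹ * y * q' * y', fun r hr => ?_, by group⟩
        have h1 := hy _ (D.QR hq' hr)
        have h2 : q'⁻¹ * y * q' * r = r * (q'⁻¹ * y * q') := by
          calc q'⁻¹ * y * q' * r = q'⁻¹ * (y * (q' * r * q'⁻¹)) * q' := by group
            _ = q'⁻¹ * ((q' * r * q'⁻¹) * y) * q' := by rw [h1]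
            _ = _ := by group
        rw [mul_assoc, hy' r hr, ← mul_assoc, h2, mul_assoc]
      inv_mem' := by
        rintro _ ⟨q, hq, y, hy, rfl⟩
        refine ⟨q⁻¹, inv_mem hq, q * y⁻¹ * q⁻¹, fun r hr => ?_, by group⟩
        have h0 := D.QR (inv_mem hq) hr
        rw [inv_inv] at h0
        have h1 := hy _ h0
        have h2 : y⁻¹ * (q⁻¹ * r * q) = (q⁻¹ * r * q) * y⁻¹ := by
          rw [inv_mul_eq_iff_eq_mul, ← mul_assoc, h1, mul_inv_cancel_right]
        calc q * y⁻¹ * q⁻¹ * r = q * (y⁻¹ * (q⁻¹ * r * q)) * q⁻¹ := by group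
          _ = q * ((q⁻¹ * r * q) * y⁻¹) * q⁻¹ := by rw [h2]
          _ = _ := by group }
  have hQM : Q ≤ M := fun q hq => ⟨q, hq, 1, fun r _ => by simp, by simp⟩
  have hxM : x ∈ M := ⟨1, one_mem _, x, hx, by simp⟩
  by_contra hxQ
  obtain ⟨τ, ⟨q, hq, y, hy, rfl⟩, hτQ, hτ⟩ := exists_normalizing (hG.to_subgroup M) hQM
    (fun h => hxQ (h ▸ hxM))
  apply hτQ
  refine mul_mem hq ?_
  refine D.mem_Q_of_trivial A (fun p hp => ?_) (fun r hr => ?_)
  · have h1 := hτ p hp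
    have h2 : y * p * y⁻¹ = q⁻¹ * (q * y * p * (q * y)⁻¹) * q := by group
    rw [h2]
    exact mul_mem (mul_mem (inv_mem hq) h1) hq
  · rw [hy r hr]
    have : r⁻¹ * (r * y * y⁻¹) = 1 := by group
    rw [this]
    exact one_mem _

/-- `G = Q ∪ tQ`, `C ∩ Sq ⊤ = 1` and `R ≤ Sq ⊤` is impossible -/
theorem false_of_normal (D : Dat Q t b) (A : Amb G) (hQn : ∀ g : G, ∀ q ∈ Q, g * q * g⁻¹ ∈ Q)
    (hCS : ∀ c ∈ D.C, c ∈ Sq (⊤ : Subgroup G) → c = 1)
    (hRS : ∀ r ∈ Rr Q b, r ∈ Sq (⊤ : Subgroup G)) : False := by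
  have hG := A.two
  obtain ⟨s, hs, hCs⟩ := D.exists_s A hCS
  have hQtQ : ∀ g : G, g ∈ Q ∨ t⁻¹ * g ∈ Q := fun g => D.norm g (hQn g)
  have htc : t * s * t⁻¹ = s := by
    by_cases hs1 : s = 1
    · rw [hs1]; group
    · rcases hCs _ (D.tC hs) with h | h
      · exfalso
        apply hs1
        calc s = t⁻¹ * (t * s * t⁻¹) * t := by group
          _ = 1 := by rw [h]; group
      · exact h
  have hst : s * t = t * s := by
    rw [mul_inv_eq_iff_eq_mul] at htc
    exact htc.symm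
  refine A.false_of_gen hst ?_
  rw [eq_top_iff]
  intro g _
  have hs' : s ∈ Subgroup.closure {s, t} ⊔ Sq (⊤ : Subgroup G) :=
    mem_sup_left (subset_closure (by simp))
  have ht' : t ∈ Subgroup.closure {s, t} ⊔ Sq (⊤ : Subgroup G) :=
    mem_sup_left (subset_closure (by simp))
  have hq' : ∀ q ∈ Q, q ∈ Subgroup.closure {s, t} ⊔ Sq (⊤ : Subgroup G) := by
    intro q hq
    obtain ⟨c, hc, hc1, r, hr, rfl⟩ := D.exists_mul hG hq
    refine mul_mem ?_ (mem_sup_right (hRS r hr))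
    rcases hCs c ⟨hc, hc1⟩ with h | h
    · rw [h]; exact one_mem _
    · rw [h]; exact hs'
  rcases hQtQ g with h | h
  · exact hq' g h
  · have := mul_mem ht' (hq' _ h)
    rwa [mul_inv_cancel_left] at this

section small

variable (D : Dat Q t b) (A : Amb G) {z₀ : G} (hz₀ : z₀ ∈ Sq (Rr Q b)) (hz₀2 : z₀ ^ 2 = 1)
  (hz₀c : ∀ r ∈ Rr Q b, z₀ * r = r * z₀) (hS : ∀ x ∈ Sq (Rr Q b), x = 1 ∨ x = z₀)

include D A hz₀ hz₀2 hz₀c hS

/-- `C` centralizes `R`. -/
theorem C_comm : ∀ c ∈ D.C, ∀ r ∈ Rr Q b, c * r = r * c := by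
  have hG := A.two
  have hfix : ∀ (φ : G → G), φ 1 = 1 → (∀ x ∈ Sq (Rr Q b), φ x ∈ Sq (Rr Q b)) →
      (∀ x ∈ Sq (Rr Q b), φ x = 1 → x = 1) → ∀ x ∈ Sq (Rr Q b), φ x = x := by
    intro φ h1 h2 h3 x hx
    rcases hS x hx with h | h
    · rw [h, h1]
    · rcases hS _ (h2 x hx) with h4 | h4
      · have := h3 x hx h4
        rw [this, h1]
      · rw [h4, h]
  have hSR : ∀ x ∈ Sq (Rr Q b), x ∈ Rr Q b := fun x hx => Sq_le _ hx
  have hb : ∀ x ∈ Sq (Rr Q b), b x = x := by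
    refine hfix b D.b1 (fun x hx => D.bSqR hx) (fun x hx h => ?_)
    exact D.binj (D.R_le (hSR x hx)) (one_mem _) (by rw [h, D.b1])
  intro c hc r hr
  have hcc : ∀ x ∈ Sq (Rr Q b), c * x * c⁻¹ = x := by
    refine hfix (fun x => c * x * c⁻¹) (by simp) (fun x hx => ?_) (fun x hx h => ?_)
    · exact conj_mem_Sq (fun h hh => D.QR hc.1 hh) hx
    · have : c * x * c⁻¹ = 1 := h
      calc x = c⁻¹ * (c * x * c⁻¹) * c := by group
        _ = 1 := by rw [this]; group
  have hcen : ∀ x ∈ Sq (Rr Q b), ∀ r ∈ Rr Q b, x * r = r * x := by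
    intro x hx r hr
    rcases hS x hx with h | h
    · rw [h]; simp
    · rw [h]; exact hz₀c r hr
  have hsq : ∀ x ∈ Sq (Rr Q b), x ^ 2 = 1 := by
    intro x hx
    rcases hS x hx with h | h
    · rw [h]; simp
    · rw [h]; exact hz₀2
  set ε := r⁻¹ * (c * r * c⁻¹) with hε
  have hεS : ε ∈ Sq (Rr Q b) := D.Q_trivial A hc.1 hr
  have e1 : c * r * c⁻¹ = r * ε := by rw [hε]; group
  have e2 : c * b r * c⁻¹ = b r * ε := by
    have h1 : b (c * r * c⁻¹) = c * b r * c⁻¹ := by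
      have hx := D.R_le hr
      rw [D.bmul _ (mul_mem hc.1 hx) _ (inv_mem hc.1), D.bmul _ hc.1 _ hx, D.binv hc.1, hc.2]
    rw [← h1, e1, D.bmul _ (D.R_le hr) _ (D.R_le (hSR ε hεS)), hb ε hεS]
  have e3 : c * b (b r) * c⁻¹ = b (b r) * ε := by
    have h1 : b (c * b r * c⁻¹) = c * b (b r) * c⁻¹ := by
      have hx := D.R_le (D.bR hr)
      rw [D.bmul _ (mul_mem hc.1 hx) _ (inv_mem hc.1), D.bmul _ hc.1 _ hx, D.binv hc.1, hc.2]
    rw [← h1, e2, D.bmul _ (D.R_le (D.bR hr)) _ (D.R_le (hSR ε hεS)), hb ε hεS]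
  have hn := D.norm_mem hG (N := Sq (Rr Q b)) (fun x hx y hy => comm_mem_Sq hx hy)
    (fun r hr n hn => SqR_conj hr hn) hr
  have e4 := hcc _ hn
  have e5 : c * (r * b r * b (b r)) * c⁻¹ = (r * b r * b (b r)) * ε := by
    have h1 : c * (r * b r * b (b r)) * c⁻¹ = (c * r * c⁻¹) * (c * b r * c⁻¹) * (c * b (b r) * c⁻¹) := by
      group
    rw [h1, e1, e2, e3]
    have h2 := hcen ε hεS _ (D.bR hr)
    have h3 := hcen ε hεS _ (D.bR (D.bR hr))
    have h4 : ε * ε = 1 := by rw [← pow_two]; exact hsq ε hεS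
    calc r * ε * (b r * ε) * (b (b r) * ε) = r * (ε * b r) * (ε * b (b r)) * ε := by
          simp only [mul_assoc]
      _ = r * (b r * ε) * (b (b r) * ε) * ε := by rw [h2, h3]
      _ = r * b r * (ε * b (b r)) * (ε * ε) := by simp only [mul_assoc]
      _ = r * b r * (b (b r) * ε) * (ε * ε) := by rw [h3]
      _ = _ := by rw [h4, mul_one]; simp only [mul_assoc]
  rw [e4] at e5
  have e6 : ε = 1 := mul_eq_left.1 e5.symm
  rw [e6, mul_one, mul_inv_eq_iff_eq_mul] at e1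
  exact e1

/-- the centralizer of `R` is commutative -/
theorem centralizer_comm {x y : G} (hx : ∀ r ∈ Rr Q b, x * r = r * x)
    (hy : ∀ r ∈ Rr Q b, y * r = r * y) : x * y = y * x := by
  obtain ⟨c₀, hc₀, hgen⟩ := D.exists_gen A
  have hc := D.C_comm A hz₀ hz₀2 hz₀c hS
  obtain ⟨k, r, hr, rfl⟩ := hgen x (D.centralizer_le A hx)
  obtain ⟨l, s, hs, rfl⟩ := hgen y (D.centralizer_le A hy)
  have e1 : Commute r (c₀ ^ l) := ((show Commute c₀ r from hc c₀ hc₀ r hr).zpow_left l).symm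
  have e2 : Commute s (c₀ ^ k) := ((show Commute c₀ s from hc c₀ hc₀ s hs).zpow_left k).symm
  have e3 : r * s = s * r := by
    have h1 := hx s hs
    have h2 : c₀ ^ k * (r * s) = c₀ ^ k * (s * r) := by
      calc c₀ ^ k * (r * s) = c₀ ^ k * r * s := by group
        _ = s * (c₀ ^ k * r) := h1
        _ = (s * c₀ ^ k) * r := by group
        _ = (c₀ ^ k * s) * r := by rw [e2.eq]
        _ = _ := by group
    exact mul_left_cancel h2
  calc c₀ ^ k * r * (c₀ ^ l * s) = c₀ ^ k * (r * c₀ ^ l) * s := by group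
    _ = c₀ ^ k * (c₀ ^ l * r) * s := by rw [e1.eq]
    _ = (c₀ ^ k * c₀ ^ l) * (r * s) := by group
    _ = (c₀ ^ l * c₀ ^ k) * (s * r) := by rw [e3, ← zpow_add, ← zpow_add, add_comm]
    _ = c₀ ^ l * (c₀ ^ k * s) * r := by group
    _ = c₀ ^ l * (s * c₀ ^ k) * r := by rw [e2.eq]
    _ = _ := by group

/-- `C ∩ Sq ⊤ ≤ R` if `R ≤ Sq ⊤` -/
theorem C_inf_le (hRS : Rr Q b ≤ Sq (⊤ : Subgroup G)) : ∀ c ∈ D.C, c ∈ Sq (⊤ : Subgroup G) →
    c ∈ Rr Q b := by
  have hG := A.two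
  have hcom := D.C_comm A hz₀ hz₀2 hz₀c hS
  have key : ∀ k : ℕ, ∀ c ∈ D.C, c ∈ Sq (⊤ : Subgroup G) → c ^ 2 ^ k = 1 → c ∈ Rr Q b := by
    intro k
    induction k with
    | zero =>
      intro c _ _ h
      rw [pow_zero, pow_one] at h
      rw [h]; exact one_mem _
    | succ k ih =>
      intro c hc hcS h
      have h1 := ih (c ^ 2) (pow_mem hc 2) (pow_mem hcS 2)
        (by rw [← pow_mul, ← h]; congr 1; ring)
      have h2 : c ^ 2 ∈ Sq (Rr Q b) := by
        refine D.mem_Sq_of_fixed hG h1 ?_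
        have : b (c ^ 2) = c ^ 2 := (D.C.pow_mem hc 2).2
        rw [this, inv_mul_cancel]
        exact one_mem _
      by_contra hcR
      let K : Subgroup G :=
        { carrier := {x | x ∈ Rr Q b ∨ c⁻¹ * x ∈ Rr Q b}
          one_mem' := Or.inl (one_mem _)
          mul_mem' := by
            rintro x y (hx | hx) (hy | hy)
            · exact Or.inl (mul_mem hx hy)
            · refine Or.inr ?_
              have h3 : c⁻¹ * (x * y) = (c⁻¹ * x * c) * (c⁻¹ * y) := by group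
              rw [h3]
              refine mul_mem ?_ hy
              have := D.QR (inv_mem hc.1) hx
              rwa [inv_inv] at this
            · refine Or.inr ?_
              rw [← mul_assoc]
              exact mul_mem hx hy
            · refine Or.inl ?_
              have h3 : x * y = c ^ 2 * ((c⁻¹ * (c⁻¹ * x) * c) * (c⁻¹ * y)) := by
                rw [pow_two]; group
              rw [h3]
              refine mul_mem h1 (mul_mem ?_ hy)
              have := D.QR (inv_mem hc.1) hx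
              rwa [inv_inv] at this
          inv_mem' := by
            rintro x (hx | hx)
            · exact Or.inl (inv_mem hx)
            · refine Or.inr ?_
              have h3 : c⁻¹ * x⁻¹ = (c ^ 2)⁻¹ * (c * (c⁻¹ * x)⁻¹ * c⁻¹) := by
                rw [pow_two]; group
              rw [h3]
              exact mul_mem (inv_mem h1) (D.QR hc.1 (inv_mem hx)) }
      have hRK : Rr Q b ≤ K := fun x hx => Or.inl hx
      have hcK : c ∈ K := Or.inr (by rw [inv_mul_cancel]; exact one_mem _)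
      have hKrep : ∀ x ∈ K, ∃ r ∈ Rr Q b, x = r ∨ x = c * r := by
        rintro x (hx | hx)
        · exact ⟨x, hx, Or.inl rfl⟩
        · exact ⟨_, hx, Or.inr (by group)⟩
      have hKS : K ≤ Sq ⊤ := by
        intro x hx
        obtain ⟨r, hr, h | h⟩ := hKrep x hx
        · rw [h]; exact hRS hr
        · rw [h]; exact mul_mem hcS (hRS hr)
      have hle := relIndex_le_four A.met hKS (B := Sq (Rr Q b)) (fun x hx s hs _ => by
        obtain ⟨r, hr, h | h⟩ := hKrep x hx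
        · rw [h]; exact SqR_conj hr hs
        · rw [h]
          have h3 : c * r * s * (c * r)⁻¹ = c * (r * s * r⁻¹) * c⁻¹ := by group
          rw [h3]
          exact conj_mem_Sq (fun h hh => D.QR hc.1 hh) (SqR_conj hr hs))
        (fun x hx => by
        obtain ⟨r, hr, h | h⟩ := hKrep x hx
        · rw [h]; exact sq_mem_Sq hr
        · rw [h, (show Commute c r from hcom c hc r hr).mul_pow]
          exact mul_mem h2 (sq_mem_Sq hr))
      have h4 := relIndex_mul_relIndex (Sq (Rr Q b)) (Rr Q b) K (Sq_le _) hRK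
      rw [D.relIndex_SqR A] at h4
      have h5 : (Rr Q b).relIndex K ≠ 1 := fun h => hcR (relIndex_eq_one.1 h hcK)
      have h6 : (Rr Q b).relIndex K ≠ 0 := relIndex_ne_zero' _ _
      omega
  intro c hc hcS
  obtain ⟨k, hk⟩ := hG c
  exact key k c hc hcS hk

end small

end Dat

end Cfsg.Agent.H774
end

-- part: H774/Tv
section
/-!
# TI two-subgroups of `Aut V`, `V` elementary abelian of order at most eight (helper774)
-/

set_option autoImplicit false
set_option linter.unusedSectionVars false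
set_option linter.unusedSimpArgs false

namespace Cfsg.Agent.H774

open Subgroup

section Tv

variable {V : Type*} [CommGroup V] [Finite V]

/-- an involution is a transvection -/
theorem exists_axis (hV2 : ∀ x : V, x * x = 1) (hV8 : Nat.card V ≤ 8) {s : MulAut V} (hs : s * s = 1)
    (hs1 : s ≠ 1) : ∃ p : V, s p = p ∧ ∀ x, s x = x ∨ s x = x * p := by
  have hss : ∀ x, s (s x) = x := fun x => DFunLike.congr_fun hs x
  let d : V →* V :=
    { toFun := fun x => x * s x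
      map_one' := by simp
      map_mul' := fun x y => by rw [map_mul]; exact mul_mul_mul_comm _ _ _ _ }
  have hd : ∀ x, d x = x * s x := fun _ => rfl
  have h1 : d.range ≤ d.ker := by
    rintro _ ⟨x, rfl⟩
    rw [MonoidHom.mem_ker, hd, hd, map_mul, hss, mul_comm (s x) x]
    exact hV2 _
  have h2 : Nat.card d.range * Nat.card d.ker = Nat.card V := by
    have e2 := d.ker.card_mul_index
    rw [index_ker] at e2
    rw [← e2, mul_comm]
  have h3 : Nat.card d.range ≤ Nat.card d.ker := Nat.card_le_card_of_injective _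
    (inclusion_injective h1)
  have h4 : Nat.card d.range ≤ 2 := by
    by_contra hlt
    push Not at hlt
    have : 3 * 3 ≤ Nat.card d.range * Nat.card d.ker := Nat.mul_le_mul hlt (hlt.trans_le h3)
    omega
  obtain ⟨x₀, hx₀⟩ : ∃ x, s x ≠ x := by
    by_contra hall
    push Not at hall
    exact hs1 (MulEquiv.ext hall)
  have hp1 : d x₀ ≠ 1 := by
    intro h
    apply hx₀
    rw [hd] at h
    have h' := hV2 x₀
    exact mul_left_cancel (h.trans h'.symm)
  refine ⟨d x₀, ?_, fun x => ?_⟩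
  · rw [hd, map_mul, hss, mul_comm]
  · by_contra hcon
    push Not at hcon
    obtain ⟨hc1, hc2⟩ := hcon
    have hx1 : d x ≠ 1 := by
      intro h
      apply hc1
      rw [hd] at h
      have h' := hV2 x
      exact mul_left_cancel (h.trans h'.symm)
    have hx2 : d x ≠ d x₀ := by
      intro h
      apply hc2
      rw [← h, hd, ← mul_assoc, hV2, one_mul]
    have : Nat.card (Fin 3) ≤ Nat.card d.range := by
      refine Nat.card_le_card_of_injective
        (fun i : Fin 3 => if i = 0 then (1 : d.range) else if i = 1 then ⟨d x₀, x₀, rfl⟩ else ⟨d x, x, rfl⟩) ?_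
      intro i j hij
      have h5 : (⟨d x₀, x₀, rfl⟩ : d.range) ≠ 1 := fun h => hp1 (congrArg Subtype.val h)
      have h6 : (⟨d x, x, rfl⟩ : d.range) ≠ 1 := fun h => hx1 (congrArg Subtype.val h)
      have h7 : (⟨d x, x, rfl⟩ : d.range) ≠ ⟨d x₀, x₀, rfl⟩ := fun h => hx2 (congrArg Subtype.val h)
      fin_cases i <;> fin_cases j
      · rfl
      · exact absurd hij.symm h5
      · exact absurd hij.symm h6
      · exact absurd hij h5
      · rfl
      · exact absurd hij.symm h7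
      · exact absurd hij h6
      · exact absurd hij h7
      · rfl
    rw [Nat.card_fin] at this
    omega

/-- products of two transvections -/
theorem pow_four_eq_one (hV2 : ∀ x : V, x * x = 1) {s s' : MulAut V} {p p' : V}
    (hp : s p = p) (hsx : ∀ x, s x = x ∨ s x = x * p) (hp' : s' p' = p')
    (hsx' : ∀ x, s' x = x ∨ s' x = x * p') (h : s' p = p) : (s * s') ^ 4 = 1 := by
  have e1 : ∀ x y : V, x * y * y = x := fun x y => by rw [mul_assoc, hV2, mul_one]
  have e2 : ∀ x y z : V, x * y * z * y = x * z := fun x y z => by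
    rw [mul_assoc, mul_comm z y, ← mul_assoc, e1]
  refine MulEquiv.ext fun x => ?_
  have h4 : ((s * s') ^ 4) x = s (s' (s (s' (s (s' (s (s' x))))))) := rfl
  rw [h4, MulAut.one_apply]
  rcases hsx p' with h1 | h1 <;> rcases hsx x with h2 | h2 <;> rcases hsx' x with h3 | h3 <;>
    simp only [h1, h2, h3, hp, hp', h, map_mul, e1, e2]

/-- products of two transvections not fixing each other's centres -/
theorem pow_three_eq_one (hV2 : ∀ x : V, x * x = 1) {s s' : MulAut V} {p p' : V}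
    (hp : s p = p) (hsx : ∀ x, s x = x ∨ s x = x * p) (hp' : s' p' = p')
    (hsx' : ∀ x, s' x = x ∨ s' x = x * p') (h : s' p = p * p') (h' : s p' = p' * p) :
    (s * s') ^ 3 = 1 := by
  have e1 : ∀ x y : V, x * y * y = x := fun x y => by rw [mul_assoc, hV2, mul_one]
  have e2 : ∀ x y z : V, x * y * z * y = x * z := fun x y z => by
    rw [mul_assoc, mul_comm z y, ← mul_assoc, e1]
  have e3 : ∀ x y z : V, x * (y * z) = x * y * z := fun x y z => (mul_assoc _ _ _).symm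
  refine MulEquiv.ext fun x => ?_
  have h4 : ((s * s') ^ 3) x = s (s' (s (s' (s (s' x))))) := rfl
  rw [h4, MulAut.one_apply]
  rcases hsx x with h2 | h2 <;> rcases hsx' x with h3 | h3 <;>
    simp only [h2, h3, hp, hp', h, h', map_mul, e1, e2, e3]

/-- apartness of involutions in different conjugates of a TI subgroup -/
theorem apart {M : Type*} [Group M] {A B : Subgroup M} (hBA : B ≤ A)
    (hTI : ∀ a ∈ A, ∀ β ∈ B, β ≠ 1 → a * β * a⁻¹ ∈ B → a ∈ B) {x y g : M} (hx : x ∈ B) (hy : y ∈ B)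
    (hx1 : x ≠ 1) (hx2 : x * x = 1) (hy1 : y ≠ 1) (hy2 : y * y = 1) (hg : g ∈ A) (hgB : g ∉ B) :
    (x * (g * y * g⁻¹)) ^ 4 ≠ 1 := by
  have hxi : x⁻¹ = x := inv_eq_of_mul_eq_one_left hx2
  set y' := g * y * g⁻¹ with hy'
  have hy'2 : y' * y' = 1 := by
    rw [hy']
    calc g * y * g⁻¹ * (g * y * g⁻¹) = g * (y * y) * g⁻¹ := by group
      _ = 1 := by rw [hy2]; group
  have hy'i : y'⁻¹ = y' := inv_eq_of_mul_eq_one_left hy'2
  have hy'A : y' ∈ A := mul_mem (mul_mem hg (hBA hy)) (inv_mem hg)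
  have hy'B : y' ∉ B := fun h => hgB (hTI g hg y hy hy1 h)
  have hxA := hBA hx
  clear_value y'
  intro h4
  set z := x * y' * x * y' with hz
  have hzA : z ∈ A := mul_mem (mul_mem (mul_mem hxA hy'A) hxA) hy'A
  have hz2 : z * z = 1 := by
    rw [← h4, hz]
    simp only [pow_succ, pow_zero, one_mul, mul_assoc]
  have hzi : z⁻¹ = z := inv_eq_of_mul_eq_one_left hz2
  have hzi' : z⁻¹ = y' * x * y' * x := by
    rw [hz, mul_inv_rev, mul_inv_rev, mul_inv_rev, hxi, hy'i]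
    simp only [mul_assoc]
  clear_value z
  by_cases hz1 : z = 1
  · apply hy'B
    refine hTI y' hy'A x hx hx1 ?_
    have h1 : y' * x * y'⁻¹ = x := by
      have h2 : x * (y' * x * y') = 1 := by rw [← hz1, hz]; simp only [mul_assoc]
      rw [hy'i]
      calc y' * x * y' = x⁻¹ * (x * (y' * x * y')) := by group
        _ = x := by rw [h2, mul_one, hxi]
    rw [h1]; exact hx
  · have h1 : z * x * z⁻¹ = x := by
      have h2 : x * z = z * x := by
        have h3 : x * z = (y' * x * y' * x) * x := by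
          rw [hz]
          calc x * (x * y' * x * y') = (x * x) * (y' * x * y') := by simp only [mul_assoc]
            _ = (y' * x * y') * (x * x) := by rw [hx2, one_mul, mul_one]
            _ = _ := by simp only [mul_assoc]
        rw [h3, ← hzi', hzi]
      rw [← h2, mul_inv_cancel_right]
    have hzB : z ∈ B := hTI z hzA x hx hx1 (by rw [h1]; exact hx)
    apply hy'B
    refine hTI y' hy'A z hzB hz1 ?_
    have h2 : y' * z * y'⁻¹ = z := by
      have h3 : y' * z * y'⁻¹ = y' * x * y' * x := by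
        rw [hy'i, hz]
        calc y' * (x * y' * x * y') * y' = y' * x * y' * x * (y' * y') := by simp only [mul_assoc]
          _ = _ := by rw [hy'2, mul_one]
      rw [h3, ← hzi', hzi]
    rw [h2]; exact hzB

theorem apart' {M : Type*} [Group M] {A B : Subgroup M} (hBA : B ≤ A)
    (hTI : ∀ a ∈ A, ∀ β ∈ B, β ≠ 1 → a * β * a⁻¹ ∈ B → a ∈ B) {x g k : M} (hx : x ∈ B)
    (hx1 : x ≠ 1) (hx2 : x * x = 1) (hg : g ∈ A) (hk : k ∈ A) (hgk : g⁻¹ * k ∉ B) :
    ((g * x * g⁻¹) * (k * x * k⁻¹)) ^ 4 ≠ 1 := by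
  intro h
  refine apart hBA hTI hx hx hx1 hx2 hx1 hx2 (mul_mem (inv_mem hg) hk) hgk ?_
  have h1 : x * (g⁻¹ * k * x * (g⁻¹ * k)⁻¹) = g⁻¹ * ((g * x * g⁻¹) * (k * x * k⁻¹)) * (g⁻¹)⁻¹ := by
    group
  rw [h1, conj_pow, h]
  group

theorem two_mul_card_le {V : Type*} [Group V] [Finite V] {H K : Subgroup V} (h : H ≤ K) {x : V}
    (hxK : x ∈ K) (hxH : x ∉ H) : 2 * Nat.card H ≤ Nat.card K := by
  obtain ⟨n, hn⟩ := card_dvd_of_le h
  have h1 : n ≠ 0 := by
    rintro rfl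
    rw [mul_zero] at hn
    exact absurd hn Nat.card_pos.ne'
  have h2 : n ≠ 1 := by
    rintro rfl
    rw [mul_one] at hn
    exact hxH ((eq_of_le_of_card_ge h hn.le) ▸ hxK)
  rw [hn, mul_comm]
  exact Nat.mul_le_mul_left _ (by omega)

/-- four pairwise apart involutions do not exist -/
theorem false_of_four (hV2 : ∀ x : V, x * x = 1) (hV8 : Nat.card V ≤ 8) (s : Fin 4 → MulAut V)
    (hs : ∀ i, s i * s i = 1) (hs1 : ∀ i, s i ≠ 1) (h : ∀ i j, i ≠ j → (s i * s j) ^ 4 ≠ 1) : False := by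
  have e1 : ∀ x y : V, x * y * y = x := fun x y => by rw [mul_assoc, hV2, mul_one]
  have e2 : ∀ x y z : V, x * y * z * y = x * z := fun x y z => by
    rw [mul_assoc, mul_comm z y, ← mul_assoc, e1]
  have e3 : ∀ x y z : V, x * (y * z) = x * y * z := fun x y z => (mul_assoc _ _ _).symm
  choose p hp hpx using fun i => exists_axis hV2 hV8 (hs i) (hs1 i)
  have hm : ∀ i j, i ≠ j → s i (p j) = p j * p i := by
    intro i j hij
    rcases hpx i (p j) with h1 | h1
    · exfalso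
      exact h j i hij.symm (pow_four_eq_one hV2 (hp j) (hpx j) (hp i) (hpx i) h1)
    · exact h1
  have hne : ∀ i j, i ≠ j → p j * p i ≠ p j := by
    intro i j hij h1
    have h2 : s i (p j) = p j := by rw [hm i j hij, h1]
    exact h j i hij.symm (pow_four_eq_one hV2 (hp j) (hpx j) (hp i) (hpx i) h2)
  let F : Fin 4 → Subgroup V := fun i => (s i).toMonoidHom.eqLocus (MonoidHom.id V)
  have hF : ∀ i x, x ∈ F i ↔ s i x = x := fun i x => Iff.rfl
  have hp1 : ∀ i, p i ≠ 1 := by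
    intro i h1
    obtain ⟨j, hj⟩ : ∃ j : Fin 4, i ≠ j := by
      by_cases h0 : i = 0
      · exact ⟨1, by rw [h0]; decide⟩
      · exact ⟨0, h0⟩
    exact hne i j hj (by rw [h1, mul_one])
  have c1 : 2 * Nat.card (F 0) ≤ Nat.card (⊤ : Subgroup V) :=
    two_mul_card_le le_top (x := p 1) (mem_top _) (fun h1 => hne 0 1 (by decide)
      (by rw [← hm 0 1 (by decide)]; exact h1))
  have c2 : 2 * Nat.card (F 0 ⊓ F 1 : Subgroup V) ≤ Nat.card (F 0) :=
    two_mul_card_le inf_le_left (x := p 0) (hp 0) (fun h1 => hne 1 0 (by decide)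
      (by rw [← hm 1 0 (by decide)]; exact h1.2))
  have e4 : ∀ x y : V, x * (x * y) = y := fun x y => by rw [← mul_assoc, hV2, one_mul]
  have c3 : 2 * Nat.card (F 0 ⊓ F 1 ⊓ F 2 : Subgroup V) ≤ Nat.card (F 0 ⊓ F 1 : Subgroup V) := by
    refine two_mul_card_le inf_le_left (x := p 0 * p 1 * p 3) ⟨?_, ?_⟩ (fun h1 => ?_)
    · show s 0 (p 0 * p 1 * p 3) = p 0 * p 1 * p 3
      rw [map_mul, map_mul, hp, hm 0 1 (by decide), hm 0 3 (by decide)]
      simp only [mul_assoc, mul_comm, mul_left_comm, e4, hV2, mul_one, one_mul]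
    · show s 1 (p 0 * p 1 * p 3) = p 0 * p 1 * p 3
      rw [map_mul, map_mul, hp, hm 1 0 (by decide), hm 1 3 (by decide)]
      simp only [mul_assoc, mul_comm, mul_left_comm, e4, hV2, mul_one, one_mul]
    · have h2 : s 2 (p 0 * p 1 * p 3) = p 0 * p 1 * p 3 := h1.2
      have h3 : s 2 (p 0 * p 1 * p 3) = p 0 * p 1 * p 3 * p 2 := by
        rw [map_mul, map_mul, hm 2 0 (by decide), hm 2 1 (by decide), hm 2 3 (by decide)]
        simp only [mul_assoc, mul_comm, mul_left_comm, e4, hV2, mul_one, one_mul]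
      exact hp1 2 (mul_eq_left.1 (h3.symm.trans h2))
  have c4 : 2 * Nat.card (F 0 ⊓ F 1 ⊓ F 2 ⊓ F 3 : Subgroup V) ≤
      Nat.card (F 0 ⊓ F 1 ⊓ F 2 : Subgroup V) := by
    refine two_mul_card_le inf_le_left (x := p 0 * p 1 * p 2) ⟨⟨?_, ?_⟩, ?_⟩ (fun h1 => ?_)
    · show s 0 (p 0 * p 1 * p 2) = p 0 * p 1 * p 2
      rw [map_mul, map_mul, hp, hm 0 1 (by decide), hm 0 2 (by decide)]
      simp only [mul_assoc, mul_comm, mul_left_comm, e4, hV2, mul_one, one_mul]
    · show s 1 (p 0 * p 1 * p 2) = p 0 * p 1 * p 2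
      rw [map_mul, map_mul, hp, hm 1 0 (by decide), hm 1 2 (by decide)]
      simp only [mul_assoc, mul_comm, mul_left_comm, e4, hV2, mul_one, one_mul]
    · show s 2 (p 0 * p 1 * p 2) = p 0 * p 1 * p 2
      rw [map_mul, map_mul, hp, hm 2 0 (by decide), hm 2 1 (by decide)]
      simp only [mul_assoc, mul_comm, mul_left_comm, e4, hV2, mul_one, one_mul]
    · have h2 : s 3 (p 0 * p 1 * p 2) = p 0 * p 1 * p 2 := h1.2
      have h3 : s 3 (p 0 * p 1 * p 2) = p 0 * p 1 * p 2 * p 3 := by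
        rw [map_mul, map_mul, hm 3 0 (by decide), hm 3 1 (by decide), hm 3 2 (by decide)]
        simp only [mul_assoc, mul_comm, mul_left_comm, e4, hV2, mul_one, one_mul]
      exact hp1 3 (mul_eq_left.1 (h3.symm.trans h2))
  have c5 : 0 < Nat.card (F 0 ⊓ F 1 ⊓ F 2 ⊓ F 3 : Subgroup V) := Nat.card_pos
  rw [card_top] at c1
  omega

/-- **the structure of `A ≤ Aut V` with a TI two-subgroup.** -/
theorem exists_of_ti (hV2 : ∀ x : V, x * x = 1) (hV8 : Nat.card V ≤ 8) {A B : Subgroup (MulAut V)}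
    (hBA : B ≤ A) (hB : IsPGroup 2 B) (hB1 : B ≠ ⊥) (hAB : ¬ A ≤ B)
    (hTI : ∀ a ∈ A, ∀ β ∈ B, β ≠ 1 → a * β * a⁻¹ ∈ B → a ∈ B) :
    ∃ s ∈ B, s ≠ 1 ∧ s * s = 1 ∧ (∀ β ∈ B, β = 1 ∨ β = s) ∧ ∃ g ∈ A,
      (s * (g * s * g⁻¹)) ^ 3 = 1 ∧ s * (g * s * g⁻¹) ≠ 1 := by
  have : Fact (Nat.Prime 2) := ⟨Nat.prime_two⟩
  obtain ⟨g, hg, hgB⟩ := SetLike.not_le_iff_exists.1 hAB
  obtain ⟨s, hsB, hs1, hs2⟩ : ∃ s ∈ B, s ≠ 1 ∧ s * s = 1 := by
    have hnt : Nontrivial B := (nontrivial_iff_ne_bot B).2 hB1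
    obtain ⟨n, hn0, hn⟩ := (IsPGroup.nontrivial_iff_card hB).1 hnt
    have h2 : 2 ∣ Nat.card B := by rw [hn]; exact dvd_pow_self 2 hn0.ne'
    obtain ⟨x, hx⟩ := exists_prime_orderOf_dvd_card' 2 h2
    refine ⟨x, x.2, ?_, ?_⟩
    · intro h
      have : x = 1 := Subtype.ext h
      rw [this, orderOf_one] at hx
      omega
    · have h3 : x * x = 1 := by rw [← pow_two, ← hx, pow_orderOf_eq_one]
      exact congrArg Subtype.val h3
  have hap : ∀ g k : MulAut V, g ∈ A → k ∈ A → g⁻¹ * k ∉ B →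
      ((g * s * g⁻¹) * (k * s * k⁻¹)) ^ 4 ≠ 1 :=
    fun g k h1 h2 h3 => apart' hBA hTI hsB hs1 hs2 h1 h2 h3
  have hnI : ∀ k : MulAut V, (k * s * k⁻¹) * (k * s * k⁻¹) = 1 := by
    intro k
    calc (k * s * k⁻¹) * (k * s * k⁻¹) = k * (s * s) * k⁻¹ := by group
      _ = 1 := by rw [hs2]; group
  have hn1 : ∀ k : MulAut V, k * s * k⁻¹ ≠ 1 := by
    intro k h
    apply hs1
    calc s = k⁻¹ * (k * s * k⁻¹) * k := by group
      _ = 1 := by rw [h]; group
  refine ⟨s, hsB, hs1, hs2, ?_, g, hg, ?_, ?_⟩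
  · intro τ hτ
    by_contra hcon
    push Not at hcon
    obtain ⟨hτ1, hτs⟩ := hcon
    -- the four conjugating elements
    have hconj : ∀ c ∈ B, c ≠ 1 → g⁻¹ * c * g ∉ B := by
      intro c hc hc1 h
      have h1 := hTI g⁻¹ (inv_mem hg) c hc hc1 (by rwa [inv_inv])
      exact hgB (inv_mem_iff.1 h1)
    let k : Fin 4 → MulAut V := ![1, g, τ * g, s * g]
    have hk : ∀ i, k i ∈ A := by
      intro i
      fin_cases i
      · exact one_mem _
      · exact hg
      · exact mul_mem (hBA hτ) hg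
      · exact mul_mem (hBA hsB) hg
    have hkk : ∀ i j, i ≠ j → (k i)⁻¹ * k j ∉ B := by
      have hsym : ∀ i j, (k i)⁻¹ * k j ∉ B → (k j)⁻¹ * k i ∉ B := by
        intro i j h h'
        apply h
        have h1 := inv_mem h'
        rwa [mul_inv_rev, inv_inv] at h1
      have h01 : (k 0)⁻¹ * k 1 ∉ B := by
        show (1 : MulAut V)⁻¹ * g ∉ B
        rwa [inv_one, one_mul]
      have h02 : (k 0)⁻¹ * k 2 ∉ B := by
        show (1 : MulAut V)⁻¹ * (τ * g) ∉ B
        rw [inv_one, one_mul]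
        intro h
        apply hgB
        have := mul_mem (inv_mem hτ) h
        rwa [inv_mul_cancel_left] at this
      have h03 : (k 0)⁻¹ * k 3 ∉ B := by
        show (1 : MulAut V)⁻¹ * (s * g) ∉ B
        rw [inv_one, one_mul]
        intro h
        apply hgB
        have := mul_mem (inv_mem hsB) h
        rwa [inv_mul_cancel_left] at this
      have h12 : (k 1)⁻¹ * k 2 ∉ B := by
        show g⁻¹ * (τ * g) ∉ B
        rw [← mul_assoc]
        exact hconj τ hτ hτ1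
      have h13 : (k 1)⁻¹ * k 3 ∉ B := by
        show g⁻¹ * (s * g) ∉ B
        rw [← mul_assoc]
        exact hconj s hsB hs1
      have h23 : (k 2)⁻¹ * k 3 ∉ B := by
        show (τ * g)⁻¹ * (s * g) ∉ B
        have h1 : (τ * g)⁻¹ * (s * g) = g⁻¹ * (τ⁻¹ * s) * g := by group
        rw [h1]
        refine hconj _ (mul_mem (inv_mem hτ) hsB) ?_
        intro h
        exact hτs (inv_mul_eq_one.1 h)
      intro i j hij
      fin_cases i <;> fin_cases j
      · exact absurd rfl hij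
      · exact h01
      · exact h02
      · exact h03
      · exact hsym _ _ h01
      · exact absurd rfl hij
      · exact h12
      · exact h13
      · exact hsym _ _ h02
      · exact hsym _ _ h12
      · exact absurd rfl hij
      · exact h23
      · exact hsym _ _ h03
      · exact hsym _ _ h13
      · exact hsym _ _ h23
      · exact absurd rfl hij
    exact false_of_four hV2 hV8 (fun i => k i * s * (k i)⁻¹) (fun i => hnI _) (fun i => hn1 _)
      (fun i j hij => hap _ _ (hk i) (hk j) (hkk i j hij))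
  · obtain ⟨p, hp, hpx⟩ := exists_axis hV2 hV8 hs2 hs1
    obtain ⟨p', hp', hpx'⟩ := exists_axis hV2 hV8 (hnI g) (hn1 g)
    have h1 := apart hBA hTI hsB hsB hs1 hs2 hs1 hs2 hg hgB
    refine pow_three_eq_one hV2 hp hpx hp' hpx' ?_ ?_
    · rcases hpx' p with h | h
      · exact absurd (pow_four_eq_one hV2 hp hpx hp' hpx' h) h1
      · exact h
    · rcases hpx p' with h | h
      · exfalso
        have h2 := pow_four_eq_one hV2 hp' hpx' hp hpx h
        apply h1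
        have h3 : (s * (g * s * g⁻¹)) ^ 4 = s * ((g * s * g⁻¹) * s) ^ 4 * s⁻¹ := by
          rw [← conj_pow]
          congr 1
          group
        rw [h3, h2]; group
      · exact h
  · intro h
    exact apart hBA hTI hsB hsB hs1 hs2 hs1 hs2 hg hgB (by rw [h, one_pow])

end Tv

end Cfsg.Agent.H774
end

-- part: H774/DatSa
section
/-!
# The case `R ≤ Φ(G)`, `R` a four-group or quaternion (helper774)
-/

set_option autoImplicit false
set_option linter.unusedSectionVars false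

namespace Cfsg.Agent.H774

open Subgroup Cfsg.Agent.OddOrderLocal.Metacyclic

/-- The facts on `R ≅ Q₈` -/
structure Quat {G : Type*} [Group G] (R : Subgroup G) (z : G) : Prop where
  zS : z ∈ Sq R
  ne : z ≠ 1
  sq : z ^ 2 = 1
  cen : ∀ r ∈ R, z * r = r * z
  inv : ∀ r ∈ R, r ^ 2 = 1 → r = 1 ∨ r = z
  four : ∀ r ∈ R, r ^ 2 = 1 ∨ r ^ 2 = z
  alt : ∀ r ∈ R, ∀ s ∈ R, r * s = s * r ∨ s * r * s⁻¹ = r⁻¹
  ctr : ∀ r ∈ R, (∀ s ∈ R, r * s = s * r) → r = 1 ∨ r = z

theorem exists_quat {G : Type*} [Group G] {R : Subgroup G} (e : R ≃* QuaternionGroup 2) :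
    ∃ z, Quat R z := by
  set z : R := e.symm (QuaternionGroup.a 2) with hz
  have hez : e z = QuaternionGroup.a 2 := e.apply_symm_apply _
  have tr : ∀ x y : R, e x = e y → x = y := fun x y h => e.injective h
  have hzs : z = (e.symm (QuaternionGroup.a 1)) ^ 2 := by
    apply tr
    rw [hez, map_pow, e.apply_symm_apply]; decide
  refine ⟨z, ⟨?_, ?_, ?_, ?_, ?_, ?_, ?_, ?_⟩⟩
  · have h1 : (z : G) = ((e.symm (QuaternionGroup.a 1) : R) : G) ^ 2 := congrArg Subtype.val hzs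
    rw [h1]
    exact sq_mem_Sq (e.symm (QuaternionGroup.a 1)).2
  · intro h
    have h1 : z = 1 := Subtype.ext h
    have h2 := hez
    rw [h1, map_one] at h2
    exact absurd h2 (by decide)
  · have h1 : z ^ 2 = 1 := by
      apply tr
      rw [map_pow, hez, map_one]; decide
    exact congrArg Subtype.val h1
  · intro r hr
    have h1 : z * ⟨r, hr⟩ = ⟨r, hr⟩ * z := by
      apply tr
      rw [map_mul, map_mul, hez]
      generalize e ⟨r, hr⟩ = g
      revert g; decide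
    exact congrArg Subtype.val h1
  · intro r hr h
    have h1 : (e ⟨r, hr⟩) ^ 2 = 1 := by
      rw [← map_pow, ← map_one e]
      exact congrArg e (Subtype.ext h)
    have h2 : e ⟨r, hr⟩ = 1 ∨ e ⟨r, hr⟩ = QuaternionGroup.a 2 := by
      revert h1
      generalize e ⟨r, hr⟩ = g
      revert g; decide
    rcases h2 with h2 | h2
    · exact Or.inl (congrArg Subtype.val (tr ⟨r, hr⟩ 1 (by rw [h2, map_one])))
    · exact Or.inr (congrArg Subtype.val (tr ⟨r, hr⟩ z (by rw [h2, hez])))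
  · intro r hr
    have h2 : (e ⟨r, hr⟩) ^ 2 = 1 ∨ (e ⟨r, hr⟩) ^ 2 = QuaternionGroup.a 2 := by
      generalize e ⟨r, hr⟩ = g
      revert g; decide
    rcases h2 with h2 | h2
    · exact Or.inl (congrArg Subtype.val (tr (⟨r, hr⟩ ^ 2) 1 (by rw [map_pow, h2, map_one])))
    · exact Or.inr (congrArg Subtype.val (tr (⟨r, hr⟩ ^ 2) z (by rw [map_pow, h2, hez])))
  · intro r hr s hs
    have h2 : ∀ g h : QuaternionGroup 2, g * h = h * g ∨ h * g * h⁻¹ = g⁻¹ := by decide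
    rcases h2 (e ⟨r, hr⟩) (e ⟨s, hs⟩) with h2 | h2
    · left
      have h3 : (⟨r, hr⟩ * ⟨s, hs⟩ : R) = ⟨s, hs⟩ * ⟨r, hr⟩ := tr _ _ (by rw [map_mul, map_mul, h2])
      exact congrArg Subtype.val h3
    · right
      have h3 : (⟨s, hs⟩ * ⟨r, hr⟩ * (⟨s, hs⟩)⁻¹ : R) = (⟨r, hr⟩)⁻¹ := tr _ _ (by
        rw [map_mul, map_mul, map_inv, map_inv, h2])
      exact congrArg Subtype.val h3
  · intro r hr h
    have h1 : ∀ s, e ⟨r, hr⟩ * s = s * e ⟨r, hr⟩ := by
      intro s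
      have h3 : (⟨r, hr⟩ * e.symm s : R) = e.symm s * ⟨r, hr⟩ :=
        Subtype.ext (h _ (e.symm s).2)
      have h4 := congrArg e h3
      rwa [map_mul, map_mul, e.apply_symm_apply] at h4
    have h2 : e ⟨r, hr⟩ = 1 ∨ e ⟨r, hr⟩ = QuaternionGroup.a 2 := by
      revert h1
      generalize e ⟨r, hr⟩ = g
      revert g; decide
    rcases h2 with h2 | h2
    · exact Or.inl (congrArg Subtype.val (tr ⟨r, hr⟩ 1 (by rw [h2, map_one])))
    · exact Or.inr (congrArg Subtype.val (tr ⟨r, hr⟩ z (by rw [h2, hez])))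

theorem Quat.mem_Sq {G : Type*} [Group G] {R : Subgroup G} {z : G} (h : Quat R z) {x : G}
    (hx : x ∈ Sq R) : x = 1 ∨ x = z := by
  refine Subgroup.closure_induction (p := fun x _ => x = 1 ∨ x = z) ?_ ?_ ?_ ?_ hx
  · rintro _ ⟨r, hr, rfl⟩
    exact h.four r hr
  · exact Or.inl rfl
  · rintro a c - - (rfl | rfl) (rfl | rfl)
    · left; simp
    · right; simp
    · right; simp
    · left; rw [← pow_two, h.sq]
  · rintro a - (rfl | rfl)
    · left; simp
    · right; exact inv_eq_of_mul_eq_one_left (by rw [← pow_two, h.sq])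

namespace Dat

variable {G : Type*} [Group G] [Finite G] {Q : Subgroup G} {t : G} {b : G → G}

/-- a central involution and a further element, central modulo it, in `Sq ⊤`. -/
theorem exists_uz (D : Dat Q t b) (A : Amb G) (hRS : Rr Q b ≤ Sq (⊤ : Subgroup G)) :
    ∃ k₀ u₀ : G, k₀ ∈ Sq (⊤ : Subgroup G) ∧ k₀ ≠ 1 ∧ (∀ g : G, k₀ * g = g * k₀) ∧
      u₀ ∈ Sq (⊤ : Subgroup G) ∧ u₀ ≠ 1 ∧ u₀ ≠ k₀ ∧ (∀ g : G, g * u₀ * g⁻¹ = u₀ ∨ g * u₀ * g⁻¹ = k₀ * u₀) ∧
      ∀ s ∈ Sq (⊤ : Subgroup G), s * u₀ = u₀ * s := by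
  have hG := A.two
  have : Fact (Nat.Prime 2) := ⟨Nat.prime_two⟩
  have hn : (Sq (⊤ : Subgroup G)).Normal := Sq_normal
  obtain ⟨g, hgR, hg⟩ := D.exists_notMem hG
  obtain ⟨hbg, hgbg⟩ := D.b_notMem hG hgR hg
  have hne : Sq (⊤ : Subgroup G) ≠ ⊥ := by
    intro h
    have h1 := hRS hgR
    rw [h, mem_bot] at h1
    exact hg (h1 ▸ one_mem _)
  obtain ⟨k₀, hk₀S, hk₀c, hk₀o⟩ := Involutions.NormalFour.exists_mem_center_of_normal hG _ hne
  have hk₀2 : k₀ ^ 2 = 1 := by rw [← hk₀o]; exact pow_orderOf_eq_one k₀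
  have hk₀1 : k₀ ≠ 1 := by
    rintro rfl
    rw [orderOf_one] at hk₀o
    omega
  have hcen : ∀ g : G, k₀ * g = g * k₀ := fun g => (mem_center_iff.1 hk₀c g).symm
  have hz : ∀ x ∈ zpowers k₀, x = 1 ∨ x = k₀ := by
    rintro _ ⟨k, rfl⟩
    have h2 : ∀ n : ℤ, k₀ ^ (2 * n) = 1 := by
      intro n
      rw [zpow_mul]
      have : k₀ ^ (2 : ℤ) = 1 := by exact_mod_cast hk₀2
      rw [this, one_zpow]
    rcases Int.even_or_odd k with ⟨s, hs⟩ | ⟨s, hs⟩
    · left
      show k₀ ^ k = 1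
      rw [hs, ← two_mul, h2]
    · right
      show k₀ ^ k = k₀
      rw [hs, zpow_add, h2, one_mul, zpow_one]
  have hzn : (zpowers k₀).Normal := by
    refine ⟨?_⟩
    rintro _ ⟨k, rfl⟩ g
    show g * k₀ ^ k * g⁻¹ ∈ zpowers k₀
    rw [((show Commute k₀ g from hcen g).zpow_left k).eq.symm, mul_inv_cancel_right]
    exact ⟨k, rfl⟩
  let f := QuotientGroup.mk' (zpowers k₀)
  have hf1 : ∀ a, f a = 1 ↔ a ∈ zpowers k₀ := fun a => QuotientGroup.eq_one_iff a
  have hN : (Sq (⊤ : Subgroup G)).map f ≠ ⊥ := by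
    intro h
    have h1 : ∀ x ∈ Rr Q b, x ∈ zpowers k₀ := by
      intro x hx
      have h2 : f x ∈ (Sq (⊤ : Subgroup G)).map f := mem_map_of_mem f (hRS hx)
      rw [h, mem_bot] at h2
      exact (hf1 x).1 h2
    rcases hz _ (h1 g hgR) with h2 | h2
    · exact hg (h2 ▸ one_mem _)
    · rcases hz _ (h1 _ (D.bR hgR)) with h3 | h3
      · exact hbg (h3 ▸ one_mem _)
      · apply hgbg
        rw [h2] at h3 ⊢
        rw [h3, inv_mul_cancel]
        exact one_mem _
  have hNn : ((Sq (⊤ : Subgroup G)).map f).Normal := hn.map f (QuotientGroup.mk'_surjective _)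
  obtain ⟨w, hwN, hwc, hwo⟩ := Involutions.NormalFour.exists_mem_center_of_normal
    (hG.to_quotient (zpowers k₀)) _ hN
  obtain ⟨u₀, hu₀, rfl⟩ := hwN
  have hu₀z : u₀ ∉ zpowers k₀ := by
    intro h
    rw [(hf1 u₀).2 h, orderOf_one] at hwo
    omega
  have hcon : ∀ g : G, g * u₀ * g⁻¹ = u₀ ∨ g * u₀ * g⁻¹ = k₀ * u₀ := by
    intro g
    have h1 := mem_center_iff.1 hwc (f g)
    have h2 : f (g * u₀ * g⁻¹ * u₀⁻¹) = 1 := by
      rw [map_mul, map_mul, map_mul, map_inv, map_inv, h1]; group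
    rcases hz _ ((hf1 _).1 h2) with h3 | h3
    · exact Or.inl (mul_inv_eq_one.1 h3)
    · exact Or.inr (mul_inv_eq_iff_eq_mul.1 h3)
  refine ⟨k₀, u₀, hk₀S, hk₀1, hcen, hu₀, fun h => hu₀z (h ▸ one_mem _),
    fun h => hu₀z (h ▸ mem_zpowers _), hcon, ?_⟩
  have hle : Sq (⊤ : Subgroup G) ≤ centralizer ({u₀} : Set G) := by
    rw [Sq_le_iff]
    intro g _
    rw [mem_centralizer_singleton_iff]
    have h1 : g * (g * u₀ * g⁻¹) * g⁻¹ = u₀ := by
      rcases hcon g with h | h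
      · rw [h, h]
      · rw [h]
        have h2 : g * (k₀ * u₀) * g⁻¹ = k₀ * (g * u₀ * g⁻¹) := by
          rw [← mul_assoc, ← hcen g]; group
        rw [h2, h, ← mul_assoc, ← pow_two, hk₀2, one_mul]
    have h2 : g ^ 2 * u₀ = (g * (g * u₀ * g⁻¹) * g⁻¹) * g ^ 2 := by rw [pow_two]; group
    rw [h2, h1]
  intro s hs
  exact mem_centralizer_singleton_iff.1 (hle hs)

theorem mem_R_of_comm (D : Dat Q t b) (A : Amb G) {z₀ : G} (hz₀ : z₀ ∈ Sq (Rr Q b)) (hz₀2 : z₀ ^ 2 = 1)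
    (hz₀c : ∀ r ∈ Rr Q b, z₀ * r = r * z₀) (hS : ∀ x ∈ Sq (Rr Q b), x = 1 ∨ x = z₀)
    (hRS : Rr Q b ≤ Sq (⊤ : Subgroup G)) {x : G} (hxS : x ∈ Sq (⊤ : Subgroup G))
    (hx : ∀ r ∈ Rr Q b, x * r = r * x) : x ∈ Rr Q b := by
  have hxQ := D.centralizer_le A hx
  obtain ⟨c, hc, hc1, r, hr, hcr⟩ := D.exists_mul A.two hxQ
  have h1 : c = x * r⁻¹ := by rw [hcr]; group
  have h2 : c ∈ Sq (⊤ : Subgroup G) := by
    rw [h1]; exact mul_mem hxS (inv_mem (hRS hr))
  have h3 := D.C_inf_le A hz₀ hz₀2 hz₀c hS hRS c ⟨hc, hc1⟩ h2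
  rw [hcr]
  exact mul_mem h3 hr

/-- `R` a four-group in `Sq ⊤`: impossible. -/
theorem false_four (D : Dat Q t b) (A : Amb G) (hV : ∀ r ∈ Rr Q b, r ^ 2 = 1)
    (hRS : Rr Q b ≤ Sq (⊤ : Subgroup G)) : False := by
  have hG := A.two
  have hS1 : ∀ x ∈ Sq (Rr Q b), x = 1 := by
    have : Sq (Rr Q b) ≤ ⊥ := by
      rw [Sq_le_iff]
      intro r hr
      rw [mem_bot]
      exact hV r hr
    intro x hx
    exact mem_bot.1 (this hx)
  have hS : ∀ x ∈ Sq (Rr Q b), x = 1 ∨ x = 1 := fun x hx => Or.inl (hS1 x hx)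
  have hc1 : ∀ r ∈ Rr Q b, (1 : G) * r = r * 1 := fun r _ => by simp
  have hab : ∀ r ∈ Rr Q b, ∀ s ∈ Rr Q b, r * s = s * r := by
    intro r hr s hs
    have h1 := hS1 _ (comm_mem_Sq hr hs)
    exact mul_inv_eq_iff_eq_mul.1 (mul_inv_eq_one.1 h1)
  obtain ⟨k₀, u₀, hk₀S, hk₀1, hk₀c, hu₀S, hu₀1, hu₀k, hu₀g, hu₀S'⟩ := D.exists_uz A hRS
  have hk₀R : k₀ ∈ Rr Q b :=
    D.mem_R_of_comm A (one_mem _) (one_pow 2) hc1 hS hRS hk₀S (fun r _ => hk₀c r)
  have hu₀R : u₀ ∈ Rr Q b :=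
    D.mem_R_of_comm A (one_mem _) (one_pow 2) hc1 hS hRS hu₀S (fun r hr => (hu₀S' r (hRS hr)).symm)
  have hRn : ∀ g : G, ∀ r ∈ Rr Q b, g * r * g⁻¹ ∈ Rr Q b := by
    intro g r hr
    have hu : g * u₀ * g⁻¹ ∈ Rr Q b := by
      rcases hu₀g g with h | h
      · rw [h]; exact hu₀R
      · rw [h]; exact mul_mem hk₀R hu₀R
    have hk : g * k₀ * g⁻¹ = k₀ := by rw [← hk₀c g]; group
    rcases D.cosets A hk₀R hu₀R (fun h => hk₀1 (hS1 _ h)) (fun h => hu₀1 (hS1 _ h))
      (fun h => hu₀k (inv_mul_eq_one.1 (hS1 _ h)).symm) hr with h | h | h | h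
    · rw [hS1 _ h]; simp
    · have := hS1 _ h
      rw [← inv_mul_eq_one.1 this, hk]
      exact hk₀R
    · have := hS1 _ h
      rw [← inv_mul_eq_one.1 this]
      exact hu
    · have := hS1 _ h
      rw [← inv_mul_eq_one.1 this]
      have h1 : g * (k₀ * u₀) * g⁻¹ = (g * k₀ * g⁻¹) * (g * u₀ * g⁻¹) := by group
      rw [h1, hk]
      exact mul_mem hk₀R hu
  have hQR : ∀ q ∈ Q, ∀ r ∈ Rr Q b, q * r = r * q := by
    intro q hq r hr
    obtain ⟨c, hc, hc', s, hs, rfl⟩ := D.exists_mul hG hq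
    have h1 := D.C_comm A (one_mem _) (one_pow 2) hc1 hS c ⟨hc, hc'⟩ r hr
    rw [mul_assoc, hab s hs r hr, ← mul_assoc, h1, mul_assoc]
  have hQn : ∀ g : G, ∀ q ∈ Q, g * q * g⁻¹ ∈ Q := by
    intro g q hq
    refine D.centralizer_le A fun r hr => ?_
    have h1 := hRn g⁻¹ r hr
    rw [inv_inv] at h1
    have h2 := hQR q hq _ h1
    calc g * q * g⁻¹ * r = g * (q * (g⁻¹ * r * g)) * g⁻¹ := by group
      _ = g * ((g⁻¹ * r * g) * q) * g⁻¹ := by rw [h2]
      _ = _ := by group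
  refine D.false_of_normal A hQn (fun c hc hcS => ?_) (fun r hr => hRS hr)
  have h1 := D.C_inf_le A (one_mem _) (one_pow 2) hc1 hS hRS c hc hcS
  refine hS1 _ (D.mem_Sq_of_fixed hG h1 ?_)
  rw [hc.2, inv_mul_cancel]
  exact one_mem _

/-- `R` quaternion in `Sq ⊤`: impossible. -/
theorem false_quat (D : Dat Q t b) (A : Amb G) {z : G} (hq : Quat (Rr Q b) z)
    (hRS : Rr Q b ≤ Sq (⊤ : Subgroup G)) : False := by
  obtain ⟨k₀, u₀, hk₀S, hk₀1, hk₀c, hu₀S, hu₀1, hu₀k, hu₀g, hu₀S'⟩ := D.exists_uz A hRS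
  have hS : ∀ x ∈ Sq (Rr Q b), x = 1 ∨ x = z := fun x hx => hq.mem_Sq hx
  have hk₀R : k₀ ∈ Rr Q b :=
    D.mem_R_of_comm A hq.zS hq.sq hq.cen hS hRS hk₀S (fun r _ => hk₀c r)
  have hu₀R : u₀ ∈ Rr Q b :=
    D.mem_R_of_comm A hq.zS hq.sq hq.cen hS hRS hu₀S (fun r hr => (hu₀S' r (hRS hr)).symm)
  rcases hq.ctr k₀ hk₀R (fun s _ => hk₀c s) with h | h
  · exact hk₀1 h
  · rcases hq.ctr u₀ hu₀R (fun s hs => (hu₀S' s (hRS hs)).symm) with h' | h'
    · exact hu₀1 h'
    · exact hu₀k (h'.trans h.symm)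

end Dat

end Cfsg.Agent.H774
end

-- part: H774/DatSb
section
/-!
# The case `R ≰ Φ(G)`, `R` a four-group or quaternion (helper774)
-/

set_option autoImplicit false
set_option linter.unusedSectionVars false

namespace Cfsg.Agent.H774

open Subgroup Cfsg.Agent.OddOrderLocal.Metacyclic

namespace Dat

variable {G : Type*} [Group G] [Finite G] {Q : Subgroup G} {t : G} {b : G → G}

/-- The element `u ∈ R ∩ G'` and `v ∈ R ∖ Φ(G)`. -/
theorem exists_uv (D : Dat Q t b) (A : Amb G) (hRS : ¬ Rr Q b ≤ Sq (⊤ : Subgroup G)) :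
    ∃ u v : G, u ∈ Rr Q b ∧ v ∈ Rr Q b ∧ v ∉ Sq (⊤ : Subgroup G) ∧ u ∈ _root_.commutator G ∧
      u ∉ Sq (Rr Q b) := by
  have hG := A.two
  obtain ⟨v, hvR, hvS⟩ := SetLike.not_le_iff_exists.1 hRS
  refine ⟨v⁻¹ * (t * v * t⁻¹), v, mul_mem (inv_mem hvR) (D.tR hvR), hvR, hvS, ?_, ?_⟩
  · have h1 : v⁻¹ * (t * v * t⁻¹) = v⁻¹ * t * (v⁻¹)⁻¹ * t⁻¹ := by group
    rw [h1]
    exact comm_mem_commutator _ _
  · intro hu
    have hvS' : v ∉ Sq (Rr Q b) := fun h => hvS (Sq_mono le_top h)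
    obtain ⟨u', hu'R, hu'S, hu'⟩ : ∃ u' ∈ Rr Q b, u' ∈ Sq (⊤ : Subgroup G) ∧ u' ∉ Sq (Rr Q b) := by
      by_contra hall
      push Not at hall
      have h1 := A.rel _ D.R_ne_top
      have h2 : (Sq (⊤ : Subgroup G)).relIndex (Rr Q b) = (Sq (Rr Q b)).relIndex (Rr Q b) := by
        rw [← inf_relIndex_right, ← inf_relIndex_right (Sq (Rr Q b))]
        congr 1
        apply le_antisymm
        · exact fun x hx => ⟨hall x hx.2 hx.1, hx.2⟩
        · exact fun x hx => ⟨Sq_mono le_top hx.1, hx.2⟩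
      rw [h2, D.relIndex_SqR A] at h1
      omega
    have hu'v : u'⁻¹ * v ∉ Sq (Rr Q b) := by
      intro h
      apply hvS
      have := mul_mem hu'S (Sq_mono le_top h : u'⁻¹ * v ∈ Sq (⊤ : Subgroup G))
      rwa [mul_inv_cancel_left] at this
    have hk : t * u' * t⁻¹ ∈ Sq (⊤ : Subgroup G) := Amb.Sq_conj hu'S t
    have htR : ∀ r ∈ Rr Q b, t * r * t⁻¹ ∈ Rr Q b := fun r hr => D.tR hr
    have hu'1 : u'⁻¹ * (t * u' * t⁻¹) ∈ Sq (Rr Q b) := by
      rcases D.cosets A hu'R hvR hu' hvS' hu'v (D.tR hu'R) with h | h | h | h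
      · exfalso
        apply hu'
        have h1 : t⁻¹ * (t * u' * t⁻¹) * t = u' := by group
        rw [← h1]
        have h2 := conj_mem_Sq (g := t⁻¹) (H := Rr Q b)
          (fun h hh => by rw [inv_inv]; exact conj_eq_of_le htR hh) h
        rwa [inv_inv] at h2
      · exact h
      · exfalso
        apply hvS
        have h1 := mul_mem hk (inv_mem (Sq_mono le_top h : v⁻¹ * (t * u' * t⁻¹) ∈ Sq (⊤ : Subgroup G)))
        have h2 : t * u' * t⁻¹ * (v⁻¹ * (t * u' * t⁻¹))⁻¹ = v := by group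
        rwa [h2] at h1
      · exfalso
        apply hvS
        have h1 := mul_mem (inv_mem hu'S) (mul_mem hk (inv_mem
          (Sq_mono le_top h : (u' * v)⁻¹ * (t * u' * t⁻¹) ∈ Sq (⊤ : Subgroup G))))
        have h2 : u'⁻¹ * (t * u' * t⁻¹ * ((u' * v)⁻¹ * (t * u' * t⁻¹))⁻¹) = v := by group
        rwa [h2] at h1
    exact D.tQ (D.mem_Q_of_trivial A D.tN (D.trivial_of_two A htR hu'R hvR hu' hvS' hu'v hu'1 hu))

/-- The configuration used in the last part. -/
structure UV {G : Type*} [Group G] (Q : Subgroup G) (b : G → G) (u v z : G) : Prop where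
  uR : u ∈ Rr Q b
  vR : v ∈ Rr Q b
  vS : v ∉ Sq (⊤ : Subgroup G)
  uA : u ∈ _root_.commutator G
  zR : z ∈ Rr Q b
  zA : z ∈ _root_.commutator G
  z2 : z ^ 2 = 1
  z1 : z ≠ 1
  cenQ : ∀ x : G, x * u = u * x → x * v = v * x → x ∈ Q
  cenC : ∀ x y : G, x * u = u * x → x * v = v * x → y * u = u * y → y * v = v * y → x * y = y * x
  fac : ∀ q ∈ Q, ∃ c r : G, c * u = u * c ∧ c * v = v * c ∧ r ∈ Rr Q b ∧ q = c * r
  two : ∀ y ∈ _root_.commutator G, y ^ 2 = 1 → y ∈ Rr Q b → y = 1 ∨ y = z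

variable {u v z : G}

/-- Elements normalizing `⟨v⟩J` normalize `Q`. -/
theorem normalizes (D : Dat Q t b) (A : Amb G) (U : UV Q b u v z) (J : Subgroup G)
    (hJA : J ≤ _root_.commutator G)
    (hJ : ∀ a ∈ J, ∃ y ∈ _root_.commutator G, y * v = v * y ∧ (a = y ∨ a = u * y))
    (hgen : ∀ r ∈ Rr Q b, r ∈ J ∨ v⁻¹ * r ∈ J) (huJ : u ∈ J) {g : G}
    (hg : ∀ a ∈ J, g * a * g⁻¹ ∈ J) {y : G} (hy : y ∈ J) (hgv : g * v * g⁻¹ = v * y) :
    ∀ q ∈ Q, g * q * g⁻¹ ∈ Q := by
  have hyQ : ∀ y ∈ _root_.commutator G, y * v = v * y → y ∈ Q := fun y hy hyv =>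
    U.cenQ y (A.com y hy u U.uA) hyv
  have hJQ : ∀ a ∈ J, a ∈ Q := by
    intro a ha
    obtain ⟨y, hy, hyv, h | h⟩ := hJ a ha
    · rw [h]; exact hyQ y hy hyv
    · rw [h]; exact mul_mem (D.R_le U.uR) (hyQ y hy hyv)
  have hvQ : v ∈ Q := D.R_le U.vR
  have hcJ : ∀ c, c * u = u * c → c * v = v * c → ∀ a ∈ J, c * a = a * c := by
    intro c hcu hcv a ha
    obtain ⟨y, hy, hyv, h | h⟩ := hJ a ha
    · rw [h]; exact U.cenC c y hcu hcv (A.com y hy u U.uA) hyv
    · rw [h, ← mul_assoc, hcu, mul_assoc, U.cenC c y hcu hcv (A.com y hy u U.uA) hyv, mul_assoc]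
  have hg' : ∀ a ∈ J, g⁻¹ * a * g ∈ J := fun a ha => conj_eq_of_le hg ha
  intro q hq
  obtain ⟨c, r, hcu, hcv, hr, rfl⟩ := U.fac q hq
  have h1 : g * (c * r) * g⁻¹ = (g * c * g⁻¹) * (g * r * g⁻¹) := by group
  rw [h1]
  refine mul_mem ?_ ?_
  · refine U.cenQ _ ?_ ?_
    · have h2 := hcJ c hcu hcv _ (hg' u huJ)
      calc g * c * g⁻¹ * u = g * (c * (g⁻¹ * u * g)) * g⁻¹ := by group
        _ = g * ((g⁻¹ * u * g) * c) * g⁻¹ := by rw [h2]
        _ = _ := by group
    · have h3 : g⁻¹ * v * g = v * (g⁻¹ * y * g)⁻¹ := by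
        have h4 : v = (g⁻¹ * v * g) * (g⁻¹ * y * g) := by
          calc v = g⁻¹ * (g * v * g⁻¹) * g := by group
            _ = g⁻¹ * (v * y) * g := by rw [hgv]
            _ = _ := by group
        nth_rewrite 2 [h4]
        group
      have h2 : c * (g⁻¹ * v * g) = (g⁻¹ * v * g) * c := by
        rw [h3, ← mul_assoc, hcv, mul_assoc, hcJ c hcu hcv _ (inv_mem (hg' y hy)), ← mul_assoc]
      calc g * c * g⁻¹ * v = g * (c * (g⁻¹ * v * g)) * g⁻¹ := by group
        _ = g * ((g⁻¹ * v * g) * c) * g⁻¹ := by rw [h2]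
        _ = _ := by group
  · rcases hgen r hr with h | h
    · exact hJQ _ (hg r h)
    · have h2 : g * r * g⁻¹ = (g * v * g⁻¹) * (g * (v⁻¹ * r) * g⁻¹) := by group
      rw [h2, hgv]
      exact mul_mem (mul_mem hvQ (hJQ y hy)) (hJQ _ (hg _ h))

/-- the main argument: `G'` is cyclic. -/
theorem isCyclic_of_UV (D : Dat Q t b) (A : Amb G) (U : UV Q b u v z)
    (hv2 : ∀ g : G, v ^ 2 * g = g * v ^ 2) (hv4 : v ^ 4 = 1) (hu2 : u ^ 2 = 1 ∨ u ^ 2 = v ^ 2)
    (hJ : ∀ a ∈ _root_.commutator G, a ^ 2 = v ^ 2 → a ^ 2 = 1 ∨ (u⁻¹ * a) ^ 2 = 1)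
    (hgen : ∀ r ∈ Rr Q b, (r ∈ _root_.commutator G ∧ (r ^ 2 = 1 ∨ r ^ 2 = v ^ 2)) ∨
      (v⁻¹ * r ∈ _root_.commutator G ∧ ((v⁻¹ * r) ^ 2 = 1 ∨ (v⁻¹ * r) ^ 2 = v ^ 2))) :
    IsCyclic (_root_.commutator G) := by
  have hG := A.two
  set P := _root_.commutator G with hP
  have hPn : P.Normal := inferInstance
  have hPcomm : ∀ a ∈ P, ∀ c ∈ P, Commute a c := fun a ha c hc => A.com a ha c hc
  -- `w`
  obtain ⟨w, hw⟩ : ∃ w, Subgroup.closure {v, w} = ⊤ := by
    have hn : (Sq (⊤ : Subgroup G)).Normal := Sq_normal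
    obtain ⟨w, hw1, hw2⟩ : ∃ w, w ∉ Sq (⊤ : Subgroup G) ∧ v⁻¹ * w ∉ Sq (⊤ : Subgroup G) := by
      by_contra hall
      push Not at hall
      have hle : (Sq (⊤ : Subgroup G)).index ≤ 2 := by
        have h1 : Nat.card (G ⧸ Sq (⊤ : Subgroup G)) ≤ Nat.card (Fin 2) := by
          refine Nat.card_le_card_of_surjective
            (fun i : Fin 2 => if i = 0 then (1 : G ⧸ Sq (⊤ : Subgroup G)) else (v : G ⧸ Sq (⊤ : Subgroup G))) ?_
          intro x
          obtain ⟨x, rfl⟩ := QuotientGroup.mk_surjective x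
          by_cases hx : x ∈ Sq (⊤ : Subgroup G)
          · exact ⟨0, by simp only [if_true]; exact ((QuotientGroup.eq_one_iff x).2 hx).symm⟩
          · refine ⟨1, ?_⟩
            have : (1 : Fin 2) ≠ 0 := by decide
            simp only [this, if_false]
            exact QuotientGroup.eq.2 (hall x hx)
        have h2 : Nat.card (Fin 2) = 2 := by simp
        rw [h2] at h1
        exact h1
      rw [A.idx] at hle
      omega
    refine ⟨w, eq_of_le_sup_Sq (hG.to_subgroup ⊤) le_top ?_⟩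
    intro k _
    have hv' : v ∈ Subgroup.closure {v, w} ⊔ Sq (⊤ : Subgroup G) :=
      mem_sup_left (subset_closure (by simp))
    have hw' : w ∈ Subgroup.closure {v, w} ⊔ Sq (⊤ : Subgroup G) :=
      mem_sup_left (subset_closure (by simp))
    rcases coset_four A.idx (fun g => sq_mem_Sq (mem_top g)) U.vS hw1 hw2 k with h | h | h | h
    · exact mem_sup_right h
    · have := mul_mem hv' (mem_sup_right h : v⁻¹ * k ∈ Subgroup.closure {v, w} ⊔ Sq (⊤ : Subgroup G))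
      rwa [mul_inv_cancel_left] at this
    · have := mul_mem hw' (mem_sup_right h : w⁻¹ * k ∈ Subgroup.closure {v, w} ⊔ Sq (⊤ : Subgroup G))
      rwa [mul_inv_cancel_left] at this
    · have := mul_mem (mul_mem hv' hw')
        (mem_sup_right h : (v * w)⁻¹ * k ∈ Subgroup.closure {v, w} ⊔ Sq (⊤ : Subgroup G))
      rwa [mul_inv_cancel_left] at this
  set e := v * w * v⁻¹ * w⁻¹ with he
  have heP : e ∈ P := comm_mem_commutator v w
  -- every normal subgroup containing `e` contains `P`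
  have hPN : ∀ N : Subgroup G, N.Normal → e ∈ N → P ≤ N := by
    intro N hN heN
    rw [hP, _root_.commutator_def, commutator_le]
    intro a _ c _
    exact comm_mem_of_closure hw heN a c
  -- `v` inverts `P`
  have hinv : ∀ a ∈ P, v * a * v⁻¹ = a⁻¹ := by
    let N : Subgroup G :=
      { carrier := {a | a ∈ P ∧ v * a * v⁻¹ = a⁻¹}
        one_mem' := ⟨one_mem _, by simp⟩
        mul_mem' := by
          rintro x y ⟨hx, hx'⟩ ⟨hy, hy'⟩
          refine ⟨mul_mem hx hy, ?_⟩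
          have h1 : v * (x * y) * v⁻¹ = (v * x * v⁻¹) * (v * y * v⁻¹) := by group
          rw [h1, hx', hy', ← mul_inv_rev, (hPcomm y hy x hx).eq]
        inv_mem' := by
          rintro x ⟨hx, hx'⟩
          refine ⟨inv_mem hx, ?_⟩
          have h1 : v * x⁻¹ * v⁻¹ = (v * x * v⁻¹)⁻¹ := by group
          rw [h1, hx'] }
    have hN : N.Normal := by
      refine ⟨?_⟩
      rintro a ⟨ha, ha'⟩ g
      refine ⟨hPn.conj_mem a ha g, ?_⟩
      have hd : v⁻¹ * g⁻¹ * v * g ∈ P := by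
        have := comm_mem_commutator v⁻¹ g⁻¹
        rwa [inv_inv, inv_inv] at this
      set d := v⁻¹ * g⁻¹ * v * g with hd'
      have h1 : v * (g * a * g⁻¹) * v⁻¹ = g * (v * (d * a * d⁻¹) * v⁻¹) * g⁻¹ := by
        rw [hd']; group
      have h2 : d * a * d⁻¹ = a := by rw [(hPcomm d hd a ha).eq]; group
      rw [h1, h2, ha']
      group
    have heN : e ∈ N := by
      refine ⟨heP, ?_⟩
      have h1 : v * e * v⁻¹ = v ^ 2 * w * v⁻¹ * w⁻¹ * v⁻¹ := by
        rw [he, pow_two]; group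
      rw [h1, hv2 w, he, pow_two]; group
    intro a ha
    exact (hPN N hN heN ha).2
  have hinv' : ∀ a ∈ P, v⁻¹ * a * v = a⁻¹ := by
    intro a ha
    have h1 := hinv _ (inv_mem ha)
    rw [inv_inv] at h1
    calc v⁻¹ * a * v = v⁻¹ * (v * a⁻¹ * v⁻¹) * v := by rw [h1]
      _ = a⁻¹ := by group
  have hYv : ∀ y ∈ P, y ^ 2 = 1 → y * v = v * y := by
    intro y hy hy2
    have h1 := hinv y hy
    have h2 : y⁻¹ = y := inv_eq_of_mul_eq_one_left (by rw [← pow_two]; exact hy2)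
    rw [h2, mul_inv_eq_iff_eq_mul] at h1
    exact h1.symm
  -- the subgroup `J`
  let J : Subgroup G :=
    { carrier := {a | a ∈ P ∧ (a ^ 2 = 1 ∨ a ^ 2 = v ^ 2)}
      one_mem' := ⟨one_mem _, Or.inl (one_pow 2)⟩
      mul_mem' := by
        rintro x y ⟨hx, hx'⟩ ⟨hy, hy'⟩
        refine ⟨mul_mem hx hy, ?_⟩
        rw [(hPcomm x hx y hy).mul_pow]
        rcases hx' with h | h <;> rcases hy' with h' | h' <;> rw [h, h']
        · left; simp
        · right; simp
        · right; simp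
        · left; rw [← pow_add, hv4]
      inv_mem' := by
        rintro x ⟨hx, hx'⟩
        refine ⟨inv_mem hx, ?_⟩
        rw [inv_pow]
        rcases hx' with h | h
        · left; rw [h, inv_one]
        · right; rw [h]
          exact inv_eq_of_mul_eq_one_left (by rw [← pow_add, hv4]) }
  have hJmem : ∀ a, a ∈ J ↔ a ∈ P ∧ (a ^ 2 = 1 ∨ a ^ 2 = v ^ 2) := fun a => Iff.rfl
  have hJn : ∀ g : G, ∀ a ∈ J, g * a * g⁻¹ ∈ J := by
    rintro g a ⟨ha, ha'⟩
    refine ⟨hPn.conj_mem a ha g, ?_⟩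
    rw [conj_pow]
    rcases ha' with h | h
    · left; rw [h]; group
    · right; rw [h, ← hv2 g]; group
  have hJ1 : J ≤ P := fun a ha => ha.1
  have hJ2 : ∀ a ∈ J, ∃ y ∈ P, y * v = v * y ∧ (a = y ∨ a = u * y) := by
    rintro a ⟨ha, ha'⟩
    have hcase : a ^ 2 = 1 ∨ (u⁻¹ * a) ^ 2 = 1 := by
      rcases ha' with h | h
      · exact Or.inl h
      · exact hJ a ha h
    rcases hcase with h | h
    · exact ⟨a, ha, hYv a ha h, Or.inl rfl⟩
    · have h1 : u⁻¹ * a ∈ P := mul_mem (inv_mem U.uA) ha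
      exact ⟨_, h1, hYv _ h1 h, Or.inr (by group)⟩
  have huJ : u ∈ J := ⟨U.uA, hu2⟩
  have hnorm : ∀ g y : G, y ∈ P → y ^ 2 = 1 → g * v * g⁻¹ = v * y → ∀ q ∈ Q, g * q * g⁻¹ ∈ Q := by
    intro g y hy hy2 hgv
    exact D.normalizes A U J hJ1 hJ2 hgen huJ (hJn g) (y := y) ⟨hy, Or.inl hy2⟩ hgv
  have hkey : ∀ g y : G, y ∈ P → y ^ 2 = 1 → g * v * g⁻¹ = v * y → y = 1 ∨ y = z := by
    intro g y hy hy2 hgv
    have h1 := D.normR (hnorm g y hy hy2 hgv) U.vR
    rw [hgv] at h1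
    have h2 := mul_mem (inv_mem U.vR) h1
    rw [inv_mul_cancel_left] at h2
    exact U.two y hy hy2 h2
  have hfour : ∀ a ∈ P, (a ^ 2) ^ 2 = 1 → a ^ 2 = 1 ∨ a ^ 2 = z := by
    intro a ha h4
    have h1 : a * v * a⁻¹ = v * (a ^ 2)⁻¹ := by
      calc a * v * a⁻¹ = v * (v⁻¹ * a * v) * a⁻¹ := by group
        _ = v * (a ^ 2)⁻¹ := by rw [hinv' a ha, pow_two]; group
    rcases hkey a (a ^ 2)⁻¹ (inv_mem (pow_mem ha 2)) (by rw [inv_pow, h4, inv_one]) h1 with h | h
    · left; exact inv_eq_one.1 h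
    · right
      rw [inv_eq_iff_eq_inv] at h
      rw [h]
      exact inv_eq_of_mul_eq_one_left (by rw [← pow_two]; exact U.z2)
  by_cases hall : ∀ a ∈ P, a ^ 2 = 1
  · -- `P` elementary abelian
    have hd : ∀ g : G, v⁻¹ * g * v * g⁻¹ = 1 ∨ v⁻¹ * g * v * g⁻¹ = z := by
      intro g
      have h1 : v⁻¹ * g * v * g⁻¹ ∈ P := by
        have := comm_mem_commutator v⁻¹ g
        rwa [inv_inv] at this
      exact hkey g _ h1 (hall _ h1) (by group)
    have hQn : ∀ g : G, ∀ q ∈ Q, g * q * g⁻¹ ∈ Q := by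
      intro g
      have h1 : v⁻¹ * g * v * g⁻¹ ∈ P := by
        have := comm_mem_commutator v⁻¹ g
        rwa [inv_inv] at this
      exact hnorm g _ h1 (hall _ h1) (by group)
    have hzc : ∀ g : G, g * z * g⁻¹ = z := by
      intro g
      have h1 : g * z * g⁻¹ ∈ P := hPn.conj_mem z U.zA g
      rcases U.two _ h1 (hall _ h1) (D.normR (hQn g) U.zR) with h | h
      · exfalso
        apply U.z1
        calc z = g⁻¹ * (g * z * g⁻¹) * g := by group
          _ = 1 := by rw [h]; group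
      · exact h
    have hzn : (zpowers z).Normal := by
      refine ⟨?_⟩
      rintro _ ⟨k, rfl⟩ g
      show g * z ^ k * g⁻¹ ∈ zpowers z
      rw [← conj_zpow, hzc]
      exact ⟨k, rfl⟩
    have hez : e ∈ zpowers z := by
      have h1 : e = v * (v⁻¹ * w * v * w⁻¹)⁻¹ * v⁻¹ := by rw [he]; group
      rw [h1]
      rcases hd w with h | h
      · rw [h]; simp
      · rw [h]
        exact hzn.conj_mem _ (inv_mem (mem_zpowers z)) v
    have hle := hPN _ hzn hez
    exact isCyclic_of_injective (Subgroup.inclusion hle) (Subgroup.inclusion_injective hle)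
  · -- there is an element with nontrivial square
    push Not at hall
    have hex : ∃ a ∈ P, a ^ 2 = z := by
      have key : ∀ k : ℕ, ∀ a ∈ P, a ^ 2 ^ k = 1 → a ^ 2 ≠ 1 → ∃ a' ∈ P, a' ^ 2 = z := by
        intro k
        induction k with
        | zero =>
          intro a _ h hne
          rw [pow_zero, pow_one] at h
          exact absurd (by rw [h]; simp) hne
        | succ k ih =>
          intro a ha h hne
          by_cases h2 : (a ^ 2) ^ 2 = 1
          · rcases hfour a ha h2 with h3 | h3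
            · exact absurd h3 hne
            · exact ⟨a, ha, h3⟩
          · exact ih (a ^ 2) (pow_mem ha 2) (by rw [← pow_mul, ← h]; congr 1; ring) h2
      obtain ⟨a, ha, hne⟩ := hall
      obtain ⟨k, hk⟩ := hG a
      exact key k a ha hk hne
    -- the squares of `P`
    let A₀ : Subgroup G :=
      { carrier := {x | ∃ a ∈ P, x = a ^ 2}
        one_mem' := ⟨1, one_mem _, by simp⟩
        mul_mem' := by
          rintro _ _ ⟨a, ha, rfl⟩ ⟨c, hc, rfl⟩
          exact ⟨a * c, mul_mem ha hc, ((hPcomm a ha c hc).mul_pow 2).symm⟩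
        inv_mem' := by
          rintro _ ⟨a, ha, rfl⟩
          exact ⟨a⁻¹, inv_mem ha, by rw [inv_pow]⟩ }
    have hA₀P : A₀ ≤ P := by
      rintro _ ⟨a, ha, rfl⟩
      exact pow_mem ha 2
    have hA₀c : IsCyclic A₀ := by
      refine isCyclic_of_unique_involution (hG.to_subgroup _)
        (fun a c => Subtype.ext (A.com a (hA₀P a.2) c (hA₀P c.2))) ?_
      have h1 : ∀ x : A₀, x ^ 2 = 1 → x ≠ 1 → (x : G) = z := by
        rintro ⟨x, a, ha, rfl⟩ h2 hne
        have h3 : (a ^ 2) ^ 2 = 1 := congrArg Subtype.val h2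
        rcases hfour a ha h3 with h | h
        · exact absurd (Subtype.ext h) hne
        · exact h
      intro a c ha hc hne hne'
      exact Subtype.ext ((h1 a ha hne).trans (h1 c hc hne').symm)
    obtain ⟨⟨g₀, hg₀⟩, hg₀gen⟩ := hA₀c.exists_generator
    have hg₀' : ∀ x ∈ A₀, ∃ k : ℤ, x = g₀ ^ k := by
      intro x hx
      obtain ⟨k, hk⟩ := hg₀gen ⟨x, hx⟩
      exact ⟨k, (congrArg Subtype.val hk).symm⟩
    have hA₀n : ∀ g : G, ∀ x ∈ A₀, g * x * g⁻¹ ∈ A₀ := by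
      rintro g _ ⟨a, ha, rfl⟩
      exact ⟨g * a * g⁻¹, hPn.conj_mem a ha g, by rw [conj_pow]⟩
    have he2A : e ^ 2 ∈ A₀ := ⟨e, heP, rfl⟩
    have hze2 : (zpowers (e ^ 2)).Normal := by
      refine ⟨?_⟩
      rintro _ ⟨k, rfl⟩ g
      show g * (e ^ 2) ^ k * g⁻¹ ∈ zpowers (e ^ 2)
      rw [← conj_zpow]
      refine zpow_mem ?_ k
      obtain ⟨l, hl⟩ := hg₀' _ he2A
      obtain ⟨n, hn⟩ := hg₀' _ (hA₀n g g₀ hg₀)
      rw [hl, ← conj_zpow, hn, ← zpow_mul, mul_comm, zpow_mul]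
      exact ⟨n, rfl⟩
    have hsq : ∀ a ∈ P, a ^ 2 ∈ zpowers (e ^ 2) := by
      let N : Subgroup G :=
        { carrier := {a | a ∈ P ∧ a ^ 2 ∈ zpowers (e ^ 2)}
          one_mem' := ⟨one_mem _, by rw [one_pow]; exact one_mem _⟩
          mul_mem' := by
            rintro x y ⟨hx, hx'⟩ ⟨hy, hy'⟩
            exact ⟨mul_mem hx hy, by rw [(hPcomm x hx y hy).mul_pow]; exact mul_mem hx' hy'⟩
          inv_mem' := by
            rintro x ⟨hx, hx'⟩
            exact ⟨inv_mem hx, by rw [inv_pow]; exact inv_mem hx'⟩ }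
      have hN : N.Normal := by
        refine ⟨?_⟩
        rintro a ⟨ha, ha'⟩ g
        exact ⟨hPn.conj_mem a ha g, by rw [conj_pow]; exact hze2.conj_mem _ ha' g⟩
      intro a ha
      exact (hPN N hN ⟨heP, mem_zpowers _⟩ ha).2
    have hze : z ∈ zpowers e := by
      obtain ⟨a, ha, haz⟩ := hex
      have h1 := hsq a ha
      rw [haz] at h1
      exact (zpowers_le.2 (pow_mem (mem_zpowers e) 2)) h1
    -- the action of `w` on `e`
    have hwe : w * e * w⁻¹ ∈ P := hPn.conj_mem e heP w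
    obtain ⟨i, hi⟩ := hsq _ hwe
    have hi' : (e ^ 2) ^ i = (w * e * w⁻¹) ^ 2 := hi
    set y₁ := e ^ (-i) * (w * e * w⁻¹) with hy₁
    have hy₁P : y₁ ∈ P := mul_mem (zpow_mem heP _) hwe
    have hy₁2 : y₁ ^ 2 = 1 := by
      rw [hy₁, (hPcomm _ (zpow_mem heP _) _ hwe).mul_pow, ← hi', ← zpow_natCast, ← zpow_natCast,
        ← zpow_mul, ← zpow_mul, ← zpow_add]
      have : -i * ((2 : ℕ) : ℤ) + ((2 : ℕ) : ℤ) * i = 0 := by push_cast; ring
      rw [this, zpow_zero]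
    have hwe' : w * e * w⁻¹ = e ^ i * y₁ := by rw [hy₁]; group
    have hiodd : Odd i := by
      by_contra heven
      rw [Int.not_odd_iff_even] at heven
      obtain ⟨j, hj⟩ := heven
      -- `e ^ 2 ≠ 1`
      have he2 : e ^ 2 ≠ 1 := by
        intro h
        obtain ⟨a, ha, haz⟩ := hex
        have h1 := hsq a ha
        rw [haz, h, zpowers_one_eq_bot, mem_bot] at h1
        exact U.z1 h1
      obtain ⟨k, hk⟩ := IsPGroup.iff_orderOf.1 hG (e ^ 2)
      have hk0 : k ≠ 0 := by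
        rintro rfl
        rw [pow_zero, orderOf_eq_one_iff] at hk
        exact he2 hk
      obtain ⟨l, rfl⟩ := Nat.exists_eq_succ_of_ne_zero hk0
      have h1 : (w * e ^ 2 * w⁻¹) ^ 2 ^ l = 1 := by
        rw [← conj_pow (i := 2), ← hi', hj]
        have h2 : ((e ^ 2) ^ (j + j)) ^ 2 ^ l = ((e ^ 2) ^ 2 ^ (l + 1)) ^ j := by
          rw [← zpow_natCast, ← zpow_natCast (e ^ 2) (2 ^ (l + 1)), ← zpow_mul, ← zpow_mul]
          congr 1; push_cast; ring
        rw [h2, ← Nat.succ_eq_add_one, ← hk, pow_orderOf_eq_one, one_zpow]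
      rw [conj_pow] at h1
      have h2 : (e ^ 2) ^ 2 ^ l = 1 := by
        calc (e ^ 2) ^ 2 ^ l = w⁻¹ * (w * (e ^ 2) ^ 2 ^ l * w⁻¹) * w := by group
          _ = 1 := by rw [h1]; group
      have h3 := orderOf_dvd_of_pow_eq_one h2
      rw [hk, Nat.pow_dvd_pow_iff_le_right (by norm_num)] at h3
      omega
    obtain ⟨k, hk⟩ : ∃ k, i + 1 = 2 * k := by
      obtain ⟨j, hj⟩ := hiodd
      exact ⟨j + 1, by rw [hj]; ring⟩
    have hwv : w * v * w⁻¹ = e⁻¹ * v := by rw [he]; group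
    have hvek : ∀ n : ℤ, v * e ^ n = e ^ (-n) * v := by
      intro n
      have h1 := hinv _ (zpow_mem heP n)
      rw [mul_inv_eq_iff_eq_mul] at h1
      rw [h1, zpow_neg]
    have hgv : (e ^ k * w ^ 2) * v * (e ^ k * w ^ 2)⁻¹ = v * y₁ := by
      have h1 : w ^ 2 * v * (w ^ 2)⁻¹ = w * (e⁻¹ * v) * w⁻¹ := by
        rw [← hwv, pow_two]; group
      have h2 : w * (e⁻¹ * v) * w⁻¹ = (w * e * w⁻¹)⁻¹ * (w * v * w⁻¹) := by group
      have hy₁i : y₁⁻¹ = y₁ := inv_eq_of_mul_eq_one_left (by rw [← pow_two]; exact hy₁2)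
      have h3 : w ^ 2 * v * (w ^ 2)⁻¹ = y₁ * e ^ (-(2 * k)) * v := by
        rw [h1, h2, hwe', hwv, mul_inv_rev, hy₁i, ← hk]
        group
      have hy₁e : ∀ n : ℤ, e ^ n * y₁ = y₁ * e ^ n := fun n => (hPcomm _ (zpow_mem heP n) _ hy₁P).eq
      calc (e ^ k * w ^ 2) * v * (e ^ k * w ^ 2)⁻¹ = e ^ k * (w ^ 2 * v * (w ^ 2)⁻¹) * e ^ (-k) := by
            group
        _ = e ^ k * (y₁ * e ^ (-(2 * k)) * v) * e ^ (-k) := by rw [h3]
        _ = (e ^ k * y₁) * e ^ (-(2 * k)) * (v * e ^ (-k)) := by group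
        _ = (y₁ * e ^ k) * e ^ (-(2 * k)) * (e ^ (-(-k)) * v) := by rw [hy₁e, hvek]
        _ = y₁ * v := by
          have h4 : e ^ k * e ^ (-(2 * k)) * e ^ (-(-k)) = 1 := by
            rw [← zpow_add, ← zpow_add]
            have : k + -(2 * k) + -(-k) = 0 := by ring
            rw [this, zpow_zero]
          calc (y₁ * e ^ k) * e ^ (-(2 * k)) * (e ^ (-(-k)) * v)
              = y₁ * (e ^ k * e ^ (-(2 * k)) * e ^ (-(-k))) * v := by group
            _ = y₁ * v := by rw [h4, mul_one]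
        _ = v * y₁ := hYv y₁ hy₁P hy₁2
    have hy₁e : y₁ ∈ zpowers e := by
      rcases hkey _ y₁ hy₁P hy₁2 hgv with h | h
      · rw [h]; exact one_mem _
      · rw [h]; exact hze
    have hen : (zpowers e).Normal := by
      have h1 : v ∈ normalizer ((zpowers e : Subgroup G) : Set G) := by
        refine mem_normalizer_of_conj ?_
        rintro _ ⟨n, rfl⟩
        show v * e ^ n * v⁻¹ ∈ zpowers e
        rw [hinv _ (zpow_mem heP n)]
        exact inv_mem ⟨n, rfl⟩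
      have h2 : w ∈ normalizer ((zpowers e : Subgroup G) : Set G) := by
        refine mem_normalizer_of_conj ?_
        rintro _ ⟨n, rfl⟩
        show w * e ^ n * w⁻¹ ∈ zpowers e
        rw [← conj_zpow, hwe']
        exact zpow_mem (mul_mem (zpow_mem (mem_zpowers e) i) hy₁e) n
      have h3 : normalizer ((zpowers e : Subgroup G) : Set G) = ⊤ := by
        rw [← top_le_iff, ← hw, closure_le]
        rintro x (rfl | rfl)
        · exact h1
        · exact h2
      exact normalizer_eq_top_iff.1 h3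
    have hle := hPN _ hen (mem_zpowers e)
    exact isCyclic_of_injective (Subgroup.inclusion hle) (Subgroup.inclusion_injective hle)

end Dat

end Cfsg.Agent.H774
end

-- part: H774/DatE
section
/-!
# The commutator subgroup is cyclic (helper774)
-/

set_option autoImplicit false
set_option linter.unusedSectionVars false

namespace Cfsg.Agent.H774

open Subgroup Cfsg.Agent.OddOrderLocal.Metacyclic

namespace Dat

variable {G : Type*} [Group G] [Finite G] {Q : Subgroup G} {t : G} {b : G → G}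

/-- elements commuting with two independent elements of `R` centralize `R` -/
theorem comm_of_two (D : Dat Q t b) (A : Amb G) {u v : G} (hu : u ∈ Rr Q b) (hv : v ∈ Rr Q b)
    (hu' : u ∉ Sq (Rr Q b)) (hv' : v ∉ Sq (Rr Q b)) (huv : u⁻¹ * v ∉ Sq (Rr Q b)) {x : G}
    (hxu : x * u = u * x) (hxv : x * v = v * x) : ∀ r ∈ Rr Q b, x * r = r * x := by
  have h1 := D.eq_R_of_mem A (K := Rr Q b ⊓ centralizer {x}) inf_le_left (g := u) (h := v)
    ⟨hu, mem_centralizer_singleton_iff.2 hxu.symm⟩ ⟨hv, mem_centralizer_singleton_iff.2 hxv.symm⟩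
    hu' hv' huv
  intro r hr
  rw [← h1] at hr
  exact (mem_centralizer_singleton_iff.1 hr.2).symm

/-- `R` a four-group -/
theorem isCyclic_four (D : Dat Q t b) (A : Amb G) (hV : ∀ r ∈ Rr Q b, r ^ 2 = 1) :
    IsCyclic (_root_.commutator G) := by
  have hG := A.two
  have hPS := commutator_le_Sq G
  by_cases hRS : Rr Q b ≤ Sq (⊤ : Subgroup G)
  · exact (D.false_four A hV hRS).elim
  have hS1 : ∀ x ∈ Sq (Rr Q b), x = 1 := by
    have : Sq (Rr Q b) ≤ ⊥ := by
      rw [Sq_le_iff]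
      intro r hr
      rw [mem_bot]
      exact hV r hr
    intro x hx
    exact mem_bot.1 (this hx)
  have hS : ∀ x ∈ Sq (Rr Q b), x = 1 ∨ x = 1 := fun x hx => Or.inl (hS1 x hx)
  have hc1 : ∀ r ∈ Rr Q b, (1 : G) * r = r * 1 := fun r _ => by simp
  obtain ⟨u, v, huR, hvR, hvS, huP, huS⟩ := D.exists_uv A hRS
  have hvS' : v ∉ Sq (Rr Q b) := fun h => hvS (Sq_mono le_top h)
  have huv : u⁻¹ * v ∉ Sq (Rr Q b) := by
    intro h
    apply hvS
    have := mul_mem (hPS huP) (Sq_mono le_top h : u⁻¹ * v ∈ Sq (⊤ : Subgroup G))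
    rwa [mul_inv_cancel_left] at this
  have hcomm : ∀ x : G, x * u = u * x → x * v = v * x → ∀ r ∈ Rr Q b, x * r = r * x :=
    fun x h1 h2 => D.comm_of_two A huR hvR huS hvS' huv h1 h2
  have hu2 := hV u huR
  have hv2 := hV v hvR
  have hcos : ∀ y ∈ Rr Q b, y = 1 ∨ y = u ∨ y = v ∨ y = u * v := by
    intro y hy
    rcases D.cosets A huR hvR huS hvS' huv hy with h | h | h | h
    · exact Or.inl (hS1 _ h)
    · exact Or.inr (Or.inl (inv_mul_eq_one.1 (hS1 _ h)).symm)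
    · exact Or.inr (Or.inr (Or.inl (inv_mul_eq_one.1 (hS1 _ h)).symm))
    · exact Or.inr (Or.inr (Or.inr (inv_mul_eq_one.1 (hS1 _ h)).symm))
  have U : UV Q b u v u :=
    { uR := huR
      vR := hvR
      vS := hvS
      uA := huP
      zR := huR
      zA := huP
      z2 := hu2
      z1 := fun h => huS (h ▸ one_mem _)
      cenQ := fun x h1 h2 => D.centralizer_le A (hcomm x h1 h2)
      cenC := fun x y h1 h2 h3 h4 => D.centralizer_comm A (one_mem _) (one_pow 2) hc1 hS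
        (hcomm x h1 h2) (hcomm y h3 h4)
      fac := fun q hq => by
        obtain ⟨c, hc, hc', r, hr, h⟩ := D.exists_mul hG hq
        have h1 := D.C_comm A (one_mem _) (one_pow 2) hc1 hS c ⟨hc, hc'⟩
        exact ⟨c, r, h1 u huR, h1 v hvR, hr, h⟩
      two := fun y hy _ hyR => by
        rcases hcos y hyR with h | h | h | h
        · exact Or.inl h
        · exact Or.inr h
        · exact absurd (hPS (h ▸ hy)) hvS
        · exfalso
          apply hvS
          have h1 := hPS (mul_mem (inv_mem huP) hy)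
          rwa [h, inv_mul_cancel_left] at h1 }
  refine D.isCyclic_of_UV A U (fun g => by rw [hv2]; simp) ?_ (Or.inl hu2) (fun a _ h => Or.inl (by rw [h, hv2]))
    (fun r hr => ?_)
  · rw [show 4 = 2 * 2 by norm_num, pow_mul, hv2, one_pow]
  · rcases hcos r hr with h | h | h | h
    · left; rw [h]; exact ⟨one_mem _, Or.inl (one_pow 2)⟩
    · left; rw [h]; exact ⟨huP, Or.inl hu2⟩
    · right; rw [h, inv_mul_cancel]; exact ⟨one_mem _, Or.inl (one_pow 2)⟩
    · right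
      rw [h]
      have h1 : (_root_.commutator G).Normal := inferInstance
      have h2 := h1.conj_mem u huP v⁻¹
      rw [inv_inv] at h2
      rw [← mul_assoc]
      refine ⟨h2, Or.inl ?_⟩
      have h3 : (v⁻¹ * u * v) ^ 2 = v⁻¹ * u ^ 2 * v := by simp only [pow_two]; group
      rw [h3, hu2]; group

/-- `R` quaternion -/
theorem isCyclic_quat (D : Dat Q t b) (A : Amb G) {z : G} (hq : Quat (Rr Q b) z) :
    IsCyclic (_root_.commutator G) := by
  have hG := A.two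
  have hPS := commutator_le_Sq G
  have hPn : (_root_.commutator G).Normal := inferInstance
  by_cases hRS : Rr Q b ≤ Sq (⊤ : Subgroup G)
  · exact (D.false_quat A hq hRS).elim
  have hS : ∀ x ∈ Sq (Rr Q b), x = 1 ∨ x = z := fun x hx => hq.mem_Sq hx
  obtain ⟨u, v, huR, hvR, hvS, huP, huS⟩ := D.exists_uv A hRS
  have hvS' : v ∉ Sq (Rr Q b) := fun h => hvS (Sq_mono le_top h)
  have huv : u⁻¹ * v ∉ Sq (Rr Q b) := by
    intro h
    apply hvS
    have := mul_mem (hPS huP) (Sq_mono le_top h : u⁻¹ * v ∈ Sq (⊤ : Subgroup G))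
    rwa [mul_inv_cancel_left] at this
  have hcomm : ∀ x : G, x * u = u * x → x * v = v * x → ∀ r ∈ Rr Q b, x * r = r * x :=
    fun x h1 h2 => D.comm_of_two A huR hvR huS hvS' huv h1 h2
  have hzR : z ∈ Rr Q b := Sq_le _ hq.zS
  have hzi : z⁻¹ = z := inv_eq_of_mul_eq_one_left (by rw [← pow_two, hq.sq])
  have hsq : ∀ r ∈ Rr Q b, r ∉ Sq (Rr Q b) → r ^ 2 = z := by
    intro r hr hr'
    rcases hq.four r hr with h | h
    · exfalso
      apply hr'
      rcases hq.inv r hr h with h | h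
      · rw [h]; exact one_mem _
      · rw [h]; exact hq.zS
    · exact h
  have hu2 := hsq u huR huS
  have hv2 := hsq v hvR hvS'
  have hnc : ¬ u * v = v * u := by
    intro h
    rcases hq.ctr u huR (hcomm u rfl h) with h | h
    · exact huS (h ▸ one_mem _)
    · exact huS (h ▸ hq.zS)
  have hvu : v * u * v⁻¹ = u⁻¹ := (hq.alt u huR v hvR).resolve_left hnc
  have hvu' : v⁻¹ * u * v = u⁻¹ := by
    have h1 : v * u⁻¹ * v⁻¹ = u := by
      have : v * u⁻¹ * v⁻¹ = (v * u * v⁻¹)⁻¹ := by group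
      rw [this, hvu, inv_inv]
    calc v⁻¹ * u * v = v⁻¹ * (v * u⁻¹ * v⁻¹) * v := by rw [h1]
      _ = u⁻¹ := by group
  have hzP : z ∈ _root_.commutator G := by rw [← hu2]; exact pow_mem huP 2
  have U : UV Q b u v z :=
    { uR := huR
      vR := hvR
      vS := hvS
      uA := huP
      zR := hzR
      zA := hzP
      z2 := hq.sq
      z1 := hq.ne
      cenQ := fun x h1 h2 => D.centralizer_le A (hcomm x h1 h2)
      cenC := fun x y h1 h2 h3 h4 => D.centralizer_comm A hq.zS hq.sq hq.cen hS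
        (hcomm x h1 h2) (hcomm y h3 h4)
      fac := fun q hq' => by
        obtain ⟨c, hc, hc', r, hr, h⟩ := D.exists_mul hG hq'
        have h1 := D.C_comm A hq.zS hq.sq hq.cen hS c ⟨hc, hc'⟩
        exact ⟨c, r, h1 u huR, h1 v hvR, hr, h⟩
      two := fun y _ hy2 hyR => hq.inv y hyR hy2 }
  have hzv : z * v = v * z := hq.cen v hvR
  -- `z` is central
  have hzc : ∀ g : G, g * z * g⁻¹ = z := by
    intro g
    set u' := g * u * g⁻¹ with hu'
    set z' := g * z * g⁻¹ with hz'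
    have hu'P : u' ∈ _root_.commutator G := hPn.conj_mem u huP g
    have hz'P : z' ∈ _root_.commutator G := hPn.conj_mem z hzP g
    have hd : v⁻¹ * g * v * g⁻¹ ∈ _root_.commutator G := by
      have := comm_mem_commutator v⁻¹ g
      rwa [inv_inv] at this
    have hz'2 : z' ^ 2 = 1 := by rw [hz', conj_pow, hq.sq]; group
    have hz'i : z'⁻¹ = z' := inv_eq_of_mul_eq_one_left (by rw [← pow_two, hz'2])
    have e1 : z' = v * u' * v⁻¹ * u'⁻¹ := by
      set d := v⁻¹ * g * v * g⁻¹ with hd'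
      have h1 : z = v * u * v⁻¹ * u⁻¹ := by
        rw [hvu, ← hzi, ← hu2, pow_two]; group
      have h2 : g * v * g⁻¹ = v * d := by rw [hd']; group
      calc z' = g * (v * u * v⁻¹ * u⁻¹) * g⁻¹ := by rw [hz', ← h1]
        _ = (g * v * g⁻¹) * u' * (g * v * g⁻¹)⁻¹ * u'⁻¹ := by rw [hu']; group
        _ = v * (d * u' * d⁻¹) * v⁻¹ * u'⁻¹ := by rw [h2]; group
        _ = v * (u' * d * d⁻¹) * v⁻¹ * u'⁻¹ := by rw [A.com d hd u' hu'P]
        _ = _ := by group
    have e2 : v * z' * v⁻¹ = z' := by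
      have h1 : v * z' * v⁻¹ = v ^ 2 * u' * v⁻¹ * u'⁻¹ * v⁻¹ := by
        rw [e1, pow_two]; group
      have h2 : v ^ 2 * u' = u' * v ^ 2 := by rw [hv2]; exact A.com z hzP u' hu'P
      have h3 : v * z' * v⁻¹ = (v * u' * v⁻¹ * u'⁻¹)⁻¹ := by
        rw [h1, h2, pow_two]; group
      rw [h3, ← e1, hz'i]
    have e2' : z' * v = v * z' := (mul_inv_eq_iff_eq_mul.1 e2).symm
    have e3 : u' * v * u'⁻¹ = v * z' := by
      have h1 : u' * v * u'⁻¹ = v * (v⁻¹ * (v * u' * v⁻¹ * u'⁻¹)⁻¹ * v) := by group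
      rw [h1, ← e1, hz'i, mul_assoc v⁻¹, e2']
      group
    let J : Subgroup G :=
      { carrier := {a | a ∈ _root_.commutator G ∧ (a * v = v * a ∨ (u⁻¹ * a) * v = v * (u⁻¹ * a))}
        one_mem' := ⟨one_mem _, Or.inl (by simp)⟩
        mul_mem' := by
          rintro x y ⟨hx, hx'⟩ ⟨hy, hy'⟩
          refine ⟨mul_mem hx hy, ?_⟩
          rcases hx' with hx' | hx' <;> rcases hy' with hy' | hy'
          · left; exact ((show Commute x v from hx').mul_left (show Commute y v from hy')).eq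
          · right
            have h1 : u⁻¹ * (x * y) = x * (u⁻¹ * y) := by
              rw [← mul_assoc, ← mul_assoc, A.com u⁻¹ (inv_mem huP) x hx]
            rw [h1]
            exact ((show Commute x v from hx').mul_left (show Commute _ v from hy')).eq
          · right
            rw [← mul_assoc u⁻¹]
            exact ((show Commute (u⁻¹ * x) v from hx').mul_left (show Commute y v from hy')).eq
          · left
            have h1 : x * y = z * ((u⁻¹ * x) * (u⁻¹ * y)) := by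
              rw [A.com u⁻¹ (inv_mem huP) x hx, ← hu2]
              have h2 : u ^ 2 * (x * u⁻¹ * (u⁻¹ * y)) = u ^ 2 * x * (u ^ 2)⁻¹ * y := by
                simp only [pow_two]; group
              rw [h2, A.com (u ^ 2) (pow_mem huP 2) x hx]
              group
            rw [h1]
            exact ((show Commute z v from hzv).mul_left ((show Commute (u⁻¹ * x) v from hx').mul_left
              (show Commute (u⁻¹ * y) v from hy'))).eq
        inv_mem' := by
          rintro x ⟨hx, hx'⟩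
          refine ⟨inv_mem hx, ?_⟩
          rcases hx' with hx' | hx'
          · left; exact (show Commute x v from hx').inv_left.eq
          · right
            have h1 : u⁻¹ * x⁻¹ = z⁻¹ * (u⁻¹ * x)⁻¹ := by
              have h2 := A.com u⁻¹ (inv_mem huP) x hx
              rw [h2, ← hu2]
              simp only [pow_two]; group
            rw [h1]
            exact ((show Commute z v from hzv).inv_left.mul_left
              (show Commute (u⁻¹ * x) v from hx').inv_left).eq }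
    have hSJ : ∀ s, s = 1 ∨ s = z → s * v = v * s := by
      rintro s (rfl | rfl)
      · simp
      · exact hzv
    have hSP : ∀ s, s = 1 ∨ s = z → s ∈ _root_.commutator G := by
      rintro s (rfl | rfl)
      · exact one_mem _
      · exact hzP
    have hn := D.normalizes A U J (fun a ha => ha.1) (fun a ha => by
      obtain ⟨ha, ha'⟩ := ha
      rcases ha' with h | h
      · exact ⟨a, ha, h, Or.inl rfl⟩
      · exact ⟨_, mul_mem (inv_mem huP) ha, h, Or.inr (by group)⟩) (fun r hr => by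
      rcases D.cosets A huR hvR huS hvS' huv hr with h | h | h | h
      · exact Or.inl ⟨hSP r (hS r h), Or.inl (hSJ r (hS r h))⟩
      · refine Or.inl ⟨?_, Or.inr (hSJ _ (hS _ h))⟩
        have := mul_mem huP (hSP _ (hS _ h))
        rwa [mul_inv_cancel_left] at this
      · exact Or.inr ⟨hSP _ (hS _ h), Or.inl (hSJ _ (hS _ h))⟩
      · right
        set s := (u * v)⁻¹ * r with hs
        have h1 : v⁻¹ * r = u⁻¹ * s := by
          have h2 : v⁻¹ * r = (v⁻¹ * u * v) * s := by rw [hs]; group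
          rw [h2, hvu']
        rw [h1]
        refine ⟨mul_mem (inv_mem huP) (hSP _ (hS _ h)), Or.inr ?_⟩
        have h3 : u⁻¹ * (u⁻¹ * s) = z * s := by
          rw [← mul_assoc, ← mul_inv_rev, ← pow_two, hu2, hzi]
        rw [h3]
        exact ((show Commute z v from hzv).mul_left (show Commute s v from hSJ _ (hS _ h))).eq)
      (⟨huP, Or.inr (by simp)⟩) (g := u') (fun a ha => by
        rw [A.com u' hu'P a ha.1, mul_inv_cancel_right]
        exact ha) (y := z') ⟨hz'P, Or.inl e2'⟩ e3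
    have h1 := D.normR hn hvR
    rw [e3] at h1
    have h2 := mul_mem (inv_mem hvR) h1
    rw [inv_mul_cancel_left] at h2
    rcases hq.inv z' h2 hz'2 with h | h
    · exfalso
      apply hq.ne
      calc z = g⁻¹ * z' * g := by rw [hz']; group
        _ = 1 := by rw [h]; group
    · exact h
  refine D.isCyclic_of_UV A U (fun g => ?_) ?_ (Or.inr (by rw [hu2, hv2])) (fun a ha h => Or.inr ?_)
    (fun r hr => ?_)
  · rw [hv2]
    exact (mul_inv_eq_iff_eq_mul.1 (hzc g)).symm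
  · rw [show 4 = 2 * 2 by norm_num, pow_mul, hv2, hq.sq]
  · have h1 : Commute u⁻¹ a := A.com u⁻¹ (inv_mem huP) a ha
    rw [h1.mul_pow, h, hv2, inv_pow, hu2, inv_mul_cancel]
  · have hs1 : ∀ s, s = 1 ∨ s = z → s ∈ _root_.commutator G ∧ s ^ 2 = 1 := by
      rintro s (rfl | rfl)
      · exact ⟨one_mem _, one_pow 2⟩
      · exact ⟨hzP, hq.sq⟩
    rcases D.cosets A huR hvR huS hvS' huv hr with h | h | h | h
    · left; exact ⟨(hs1 _ (hS _ h)).1, Or.inl (hs1 _ (hS _ h)).2⟩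
    · left
      set s := u⁻¹ * r with hs
      obtain ⟨hsP, hs2⟩ := hs1 _ (hS _ h)
      have h1 : r = u * s := by rw [hs]; group
      rw [h1]
      refine ⟨mul_mem huP hsP, Or.inr ?_⟩
      rw [(show Commute u s from A.com u huP s hsP).mul_pow, hs2, mul_one, hu2, hv2]
    · right; exact ⟨(hs1 _ (hS _ h)).1, Or.inl (hs1 _ (hS _ h)).2⟩
    · right
      set s := (u * v)⁻¹ * r with hs
      obtain ⟨hsP, hs2⟩ := hs1 _ (hS _ h)
      have h1 : v⁻¹ * r = u⁻¹ * s := by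
        have h2 : v⁻¹ * r = (v⁻¹ * u * v) * s := by rw [hs]; group
        rw [h2, hvu']
      rw [h1]
      refine ⟨mul_mem (inv_mem huP) hsP, Or.inr ?_⟩
      rw [(show Commute u⁻¹ s from A.com u⁻¹ (inv_mem huP) s hsP).mul_pow, hs2, mul_one, inv_pow,
        hu2, hv2, hzi]

/-- **the group-theoretic part**: the commutator subgroup is cyclic. -/
theorem isCyclic_commutator (D : Dat Q t b) (A : Amb G) : IsCyclic (_root_.commutator G) := by
  rcases D.shapes A with h | ⟨⟨e⟩⟩ | ⟨hab, m, hme, hm⟩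
  · exact D.isCyclic_four A h
  · obtain ⟨z, hz⟩ := exists_quat e
    exact D.isCyclic_quat A hz
  · exact D.isCyclic_homocyclic A hab hme hm

end Dat

end Cfsg.Agent.H774
end
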